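import Groth.Agent.GrpScheme.FlatFib.CriterionFT
import Groth.Agent.FlatMor.FibreStalk
import Groth.Prelude.Def_MoreMor
import Mathlib.AlgebraicGeometry.Morphisms.FinitePresentation
import Mathlib.AlgebraicGeometry.AffineScheme
import Mathlib.RingTheory.FinitePresentation

/-!
# The fibrewise criterion of flatness on schemes
-/

set_option autoImplicit false

universe u

open AlgebraicGeometry CategoryTheory Limits TopologicalSpace MvPolynomial TensorProduct

namespace Groth.Agent.GrpScheme.FlatFib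

variable {X Y : Scheme.{u}}

/-- Flatness passes to quotients by extended ideals. -/
theorem flat_quotientMap_of_flat {A B : Type u} [CommRing A] [CommRing B] [Algebra A B]
    [Module.Flat A B] (I : Ideal A) :
    RingHom.Flat (R := A ⧸ I) (S := B ⧸ I.map (algebraMap A B))
      (Ideal.quotientMap _ (algebraMap A B) Ideal.le_comap_map) := by
  have h : Ideal.quotientMap (I.map (algebraMap A B)) (algebraMap A B) Ideal.le_comap_map =
      algebraMap (A ⧸ I) (B ⧸ I.map (algebraMap A B)) := RingHom.ext fun x => by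
    obtain ⟨x, rfl⟩ := Ideal.Quotient.mk_surjective x
    rfl
  rw [h, RingHom.flat_algebraMap_iff]
  let e : ((A ⧸ I) ⊗[A] B) ≃ₗ[A] (B ⧸ I.map (algebraMap A B)) :=
    ((TensorProduct.quotTensorEquivQuotSMul B I).trans
      (Submodule.quotEquivOfEq _ _ (Ideal.smul_top_eq_map I))).trans
      (Submodule.Quotient.restrictScalarsEquiv A _)
  exact Module.Flat.of_linearEquiv
    (e.extendScalarsOfSurjective (R := A) (S := A ⧸ I) Ideal.Quotient.mk_surjective).symm

theorem germ_appLE (f : X ⟶ Y) (W : Y.Opens) (V : X.Opens) (e : V ≤ f ⁻¹ᵁ W) (x : X) (hx : x ∈ V)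
    (r : Γ(Y, W)) : f.stalkMap x (Y.presheaf.germ W (f x) (e hx) r) =
      X.presheaf.germ V x hx (f.appLE W V e r) := by
  refine (f.germ_stalkMap_apply W x (e hx) r).trans ?_
  exact (TopCat.Presheaf.germ_res_apply X.presheaf (homOfLE e) x hx (f.app W r)).symm

theorem mem_primeIdealOf {V : X.Opens} (hV : IsAffineOpen V) (x : X) (hx : x ∈ V) (a : Γ(X, V)) :
    a ∈ (hV.primeIdealOf ⟨x, hx⟩).asIdeal ↔ ¬ IsUnit (X.presheaf.germ V x hx a) := by
  let := TopCat.Presheaf.algebra_section_stalk X.presheaf (U := V) ⟨x, hx⟩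
  have := hV.isLocalization_stalk ⟨x, hx⟩
  exact ((not_congr (IsLocalization.AtPrime.isUnit_to_map_iff (X.presheaf.stalk x)
    (hV.primeIdealOf ⟨x, hx⟩).asIdeal a)).trans not_not).symm

/-- Local rings of finite type morphisms are localized quotients of polynomial rings over the local
rings of the base. -/
theorem exists_isLQ (f : X ⟶ Y) (W : Y.Opens) (hW : IsAffineOpen W) (V : X.Opens)
    (hV : IsAffineOpen V) (e : V ≤ f ⁻¹ᵁ W) (x : X) (hx : x ∈ V) {n : ℕ}
    (π₀ : MvPolynomial (Fin n) Γ(Y, W) →+* Γ(X, V)) (hπ₀ : π₀.comp C = (f.appLE W V e).hom)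
    (hsurj : Function.Surjective π₀) :
    ∃ π : MvPolynomial (Fin n) (Y.presheaf.stalk (f x)) →+* X.presheaf.stalk x,
      π.comp C = (f.stalkMap x).hom ∧
      IsLQ π ((RingHom.ker π₀).map
        (MvPolynomial.map (Y.presheaf.germ W (f x) (e hx)).hom)) := by
  let := TopCat.Presheaf.algebra_section_stalk X.presheaf (U := V) ⟨x, hx⟩
  let := TopCat.Presheaf.algebra_section_stalk Y.presheaf (U := W) ⟨f x, e hx⟩
  have := hV.isLocalization_stalk ⟨x, hx⟩
  have hW' := hW.isLocalization_stalk ⟨f x, e hx⟩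
  have hp : (hV.primeIdealOf ⟨x, hx⟩).asIdeal.comap (f.appLE W V e).hom =
      (hW.primeIdealOf ⟨f x, e hx⟩).asIdeal := by
    ext r
    rw [Ideal.mem_comap, mem_primeIdealOf hV x hx, mem_primeIdealOf hW (f x) (e hx), ← germ_appLE]
    exact not_congr ⟨fun h => IsUnit.of_map (f.stalkMap x).hom _ h, fun h => h.map _⟩
  have : IsLocalization.AtPrime (Y.presheaf.stalk (f x))
      ((hV.primeIdealOf ⟨x, hx⟩).asIdeal.comap (f.appLE W V e).hom) := by
    convert hW'
  exact isLQ_localization (hV.primeIdealOf ⟨x, hx⟩).asIdeal (f.appLE W V e).hom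
    (f.stalkMap x).hom (fun r => germ_appLE f W V e x hx r) π₀ hπ₀ hsurj

/-- The local ring at a point of a locally finite type morphism. -/
theorem exists_isLQ_of_locallyOfFiniteType (f : X ⟶ Y) [LocallyOfFiniteType f] (x : X) :
    ∃ (n : ℕ) (π : MvPolynomial (Fin n) (Y.presheaf.stalk (f x)) →+* X.presheaf.stalk x)
      (J : Ideal (MvPolynomial (Fin n) (Y.presheaf.stalk (f x)))),
      π.comp C = (f.stalkMap x).hom ∧ IsLQ π J := by
  obtain ⟨_, ⟨W, hW, rfl⟩, hfx, -⟩ := Y.isBasis_affineOpens.exists_subset_of_mem_open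
    (Set.mem_univ (f x)) isOpen_univ
  obtain ⟨_, ⟨V, hV, rfl⟩, hx, hVW⟩ := X.isBasis_affineOpens.exists_subset_of_mem_open
    (show x ∈ (f ⁻¹ᵁ W : Set X) from hfx) (f ⁻¹ᵁ W).2
  have h := HasRingHomProperty.appLE @LocallyOfFiniteType f inferInstance ⟨W, hW⟩ ⟨V, hV⟩ hVW
  let := (f.appLE W V hVW).hom.toAlgebra
  have : Algebra.FiniteType Γ(Y, W) Γ(X, V) := h
  obtain ⟨n, α, hα⟩ := Algebra.FiniteType.iff_quotient_mvPolynomial''.mp this
  obtain ⟨π, hπC, hπ⟩ := exists_isLQ f W hW V hV hVW x hx α.toRingHom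
    (RingHom.ext fun r => α.commutes r) hα
  exact ⟨n, π, _, hπC, hπ⟩

/-- The local ring at a point of a locally finitely presented morphism. -/
theorem exists_isLQ_of_locallyOfFinitePresentation (f : X ⟶ Y) [LocallyOfFinitePresentation f]
    (x : X) :
    ∃ (n k : ℕ) (π : MvPolynomial (Fin n) (Y.presheaf.stalk (f x)) →+* X.presheaf.stalk x)
      (φ : Fin k → MvPolynomial (Fin n) (Y.presheaf.stalk (f x))),
      π.comp C = (f.stalkMap x).hom ∧ IsLQ π (Ideal.span (Set.range φ)) := by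
  obtain ⟨_, ⟨W, hW, rfl⟩, hfx, -⟩ := Y.isBasis_affineOpens.exists_subset_of_mem_open
    (Set.mem_univ (f x)) isOpen_univ
  obtain ⟨_, ⟨V, hV, rfl⟩, hx, hVW⟩ := X.isBasis_affineOpens.exists_subset_of_mem_open
    (show x ∈ (f ⁻¹ᵁ W : Set X) from hfx) (f ⁻¹ᵁ W).2
  have h := HasRingHomProperty.appLE @LocallyOfFinitePresentation f inferInstance ⟨W, hW⟩ ⟨V, hV⟩
    hVW
  let := (f.appLE W V hVW).hom.toAlgebra
  have : Algebra.FinitePresentation Γ(Y, W) Γ(X, V) := h
  obtain ⟨n, α, hα, hker⟩ := this.out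
  obtain ⟨k, g, hg⟩ := Submodule.fg_iff_exists_fin_generating_family.mp hker
  obtain ⟨π, hπC, hπ⟩ := exists_isLQ f W hW V hV hVW x hx α.toRingHom
    (RingHom.ext fun r => α.commutes r) hα
  refine ⟨n, k, π, fun i => MvPolynomial.map (Y.presheaf.germ W (f x) (hVW hx)).hom (g i), hπC, ?_⟩
  convert hπ using 1
  rw [show RingHom.ker α.toRingHom = Ideal.span (Set.range g) from hg.symm, Ideal.map_span,
    ← Set.range_comp]
  rfl

variable {S : Scheme.{u}}

/-- A locally finitely presented composite with locally finite type second map. -/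
theorem locallyOfFinitePresentation_of_comp (f : X ⟶ Y) (g : Y ⟶ S)
    [LocallyOfFinitePresentation (f ≫ g)] [LocallyOfFiniteType g] :
    LocallyOfFinitePresentation f := by
  refine (HasRingHomProperty.iff_exists_appLE
    (RingHom.finitePresentation_stableUnderComposition.stableUnderCompositionWithLocalizationAway
      RingHom.finitePresentation_holdsForLocalizationAway).left).mpr fun x => ?_
  obtain ⟨_, ⟨W, hW, rfl⟩, hgx, -⟩ := S.isBasis_affineOpens.exists_subset_of_mem_open
    (Set.mem_univ (g (f x))) isOpen_univ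
  obtain ⟨_, ⟨U, hU, rfl⟩, hfx, hUW⟩ := Y.isBasis_affineOpens.exists_subset_of_mem_open
    (show f x ∈ (g ⁻¹ᵁ W : Set Y) from hgx) (g ⁻¹ᵁ W).2
  obtain ⟨_, ⟨V, hV, rfl⟩, hx, hVU⟩ := X.isBasis_affineOpens.exists_subset_of_mem_open
    (show x ∈ (f ⁻¹ᵁ U : Set X) from hfx) (f ⁻¹ᵁ U).2
  refine ⟨⟨U, hU⟩, ⟨V, hV⟩, hx, hVU, ?_⟩
  have h1 := HasRingHomProperty.appLE @LocallyOfFiniteType g inferInstance ⟨W, hW⟩ ⟨U, hU⟩ hUW
  have h2 := HasRingHomProperty.appLE @LocallyOfFinitePresentation (f ≫ g) inferInstance ⟨W, hW⟩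
    ⟨V, hV⟩ (hVU.trans ((Opens.map f.base).map (homOfLE hUW)).le)
  dsimp only at h2
  rw [← Scheme.Hom.appLE_comp_appLE f g W U V hUW hVU, CommRingCat.hom_comp] at h2
  exact RingHom.FinitePresentation.of_comp_finiteType _ h2 h1

/-- The projection to the local ring of a fibre, with prescribed image point. -/
theorem exists_proj (g : Y ⟶ S) (s : S) (w : g.fiber s) (z : Y) (h : g.fiberι s w = z) :
    Function.Surjective (Y.presheaf.stalkSpecializes (specializes_of_eq h) ≫
      (g.fiberι s).stalkMap w).hom ∧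
    RingHom.ker (Y.presheaf.stalkSpecializes (specializes_of_eq h) ≫
      (g.fiberι s).stalkMap w).hom =
      (IsLocalRing.maximalIdeal (S.presheaf.stalk (g z))).map (g.stalkMap z).hom := by
  subst h
  rw [TopCat.Presheaf.stalkSpecializes_refl, Category.id_comp]
  exact ⟨(g.fiberι s).stalkMap_surjective w, Groth.Agent.FlatMor.FibreStalk.ker_stalkMap_fiberι g s w⟩

theorem stalkMap_comp_hom (f : X ⟶ Y) (g : Y ⟶ S) (x : X) :
    ((f ≫ g).stalkMap x).hom = (f.stalkMap x).hom.comp (g.stalkMap (f x)).hom :=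
  congrArg CommRingCat.Hom.hom (Scheme.Hom.stalkMap_comp f g x)

theorem map_maximalIdeal_le (f : X ⟶ Y) (g : Y ⟶ S) (x : X) :
    (IsLocalRing.maximalIdeal (S.presheaf.stalk (g (f x)))).map (g.stalkMap (f x)).hom ≤
      ((IsLocalRing.maximalIdeal (S.presheaf.stalk (g (f x)))).map
        ((f ≫ g).stalkMap x).hom).comap (f.stalkMap x).hom := by
  refine Ideal.le_comap_map.trans (Ideal.comap_mono ?_)
  refine (Ideal.map_map _ _).le.trans ?_
  rw [stalkMap_comp_hom]
  exact le_rfl

/-- Flatness of the morphism of fibres at a point, in terms of local rings modulo the maximal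
ideal of the base. -/
theorem fiberMap_flat_iff (f : X ⟶ Y) (g : Y ⟶ S) (s : S) (y : (f ≫ g).fiber s) (x : X)
    (hy : (f ≫ g).fiberι s y = x) :
    ((MoreMor.fiberMap f g s).stalkMap y).hom.Flat ↔
    RingHom.Flat (R := Y.presheaf.stalk (f x) ⧸
        (IsLocalRing.maximalIdeal (S.presheaf.stalk (g (f x)))).map (g.stalkMap (f x)).hom)
      (S := X.presheaf.stalk x ⧸
        (IsLocalRing.maximalIdeal (S.presheaf.stalk (g (f x)))).map ((f ≫ g).stalkMap x).hom)
      (Ideal.quotientMap _ (f.stalkMap x).hom (map_maximalIdeal_le f g x)) := by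
  subst hy
  let F := MoreMor.fiberMap f g s
  have hsq : F ≫ g.fiberι s = (f ≫ g).fiberι s ≫ f := pullback.lift_fst _ _ _
  have hz : g.fiberι s (F y) = f ((f ≫ g).fiberι s y) := by
    rw [← Scheme.Hom.comp_apply, hsq, Scheme.Hom.comp_apply]
  obtain ⟨hbs, hbk⟩ := exists_proj g s (F y) _ hz
  let a := Y.presheaf.stalkSpecializes (specializes_of_eq hz) ≫ (g.fiberι s).stalkMap (F y)
  let b := ((f ≫ g).fiberι s).stalkMap y
  have hb : Function.Surjective b.hom := ((f ≫ g).fiberι s).stalkMap_surjective y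
  have hbker := Groth.Agent.FlatMor.FibreStalk.ker_stalkMap_fiberι (f ≫ g) s y
  have hcomm : a ≫ F.stalkMap y = f.stalkMap ((f ≫ g).fiberι s y) ≫ b := by
    rw [Category.assoc, ← Scheme.Hom.stalkMap_comp, Scheme.Hom.stalkMap_congr_hom _ _ hsq y,
      Scheme.Hom.stalkMap_comp]
    simp only [TopCat.Presheaf.stalkCongr_hom]
    refine (TopCat.Presheaf.stalkSpecializes_comp_assoc _ _ _ _).trans ?_
    exact (congrArg (· ≫ _) (TopCat.Presheaf.stalkSpecializes_refl _ _)).trans (Category.id_comp _)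
  let ea := (Ideal.quotEquivOfEq hbk.symm).trans (RingHom.quotientKerEquivOfSurjective hbs)
  let eb := (Ideal.quotEquivOfEq hbker.symm).trans (RingHom.quotientKerEquivOfSurjective hb)
  have hea : ∀ v, ea (Ideal.Quotient.mk _ v) = a.hom v := fun v => rfl
  have heb : ∀ v, eb (Ideal.Quotient.mk _ v) = b.hom v := fun v => rfl
  have key : (F.stalkMap y).hom.comp ea.toRingHom =
      eb.toRingHom.comp (Ideal.quotientMap _ (f.stalkMap _).hom (map_maximalIdeal_le f g _)) := by
    refine RingHom.ext fun v => ?_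
    obtain ⟨v, rfl⟩ := Ideal.Quotient.mk_surjective v
    rw [RingHom.comp_apply, RingHom.comp_apply]
    refine Eq.trans (congrArg _ (hea v)) (Eq.trans ?_ (heb _).symm)
    exact RingHom.congr_fun (congrArg CommRingCat.Hom.hom hcomm) v
  rw [← RingHom.Flat.comp_iff_of_bijective_right (g := ea.toRingHom) ea.bijective,
    ← RingHom.Flat.comp_iff_of_bijective_left
      (f := Ideal.quotientMap _ (f.stalkMap _).hom (map_maximalIdeal_le f g _)) (g := eb.toRingHom)
      eb.bijective]
  exact Iff.of_eq (congrArg RingHom.Flat key)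

/-- The fibrewise criterion of flatness, pointwise. -/
theorem flat_of_fibre (f : X ⟶ Y) (g : Y ⟶ S) [LocallyOfFinitePresentation (f ≫ g)]
    [LocallyOfFiniteType g] (x : X) (hflat : ((f ≫ g).stalkMap x).hom.Flat)
    (hfib : ((MoreMor.fiberMap f g (g (f x))).stalkMap ((f ≫ g).asFiber x)).hom.Flat) :
    (g.stalkMap (f x)).hom.Flat ∧ (f.stalkMap x).hom.Flat := by
  obtain ⟨n, π, J, hπC, hπ⟩ := exists_isLQ_of_locallyOfFiniteType g (f x)
  obtain ⟨n', k', π', φ', hπC', hπ'⟩ := exists_isLQ_of_locallyOfFinitePresentation (f ≫ g) x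
  have hcomp : (f.stalkMap x).hom.comp (g.stalkMap (f x)).hom = ((f ≫ g).stalkMap x).hom := by
    rw [Scheme.Hom.stalkMap_comp]
    rfl
  have hle := map_maximalIdeal_le f g x
  have hq := (fiberMap_flat_iff f g _ _ x ((f ≫ g).fiberι_asFiber x)).mp hfib
  let := (g.stalkMap (f x)).hom.toAlgebra
  let : Algebra (S.presheaf.stalk (g (f x))) (X.presheaf.stalk x) :=
    ((f ≫ g).stalkMap x).hom.toAlgebra
  have : IsLocalHom (algebraMap (S.presheaf.stalk (g (f x))) (Y.presheaf.stalk (f x))) :=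
    inferInstanceAs (IsLocalHom (g.stalkMap (f x)).hom)
  have : IsLocalHom (algebraMap (S.presheaf.stalk (g (f x))) (X.presheaf.stalk x)) :=
    inferInstanceAs (IsLocalHom ((f ≫ g).stalkMap x).hom)
  exact fibre_criterion_ft (f.stalkMap x).hom hcomp hflat hle hq π hπC J hπ
    ⟨π', φ', fun r => RingHom.congr_fun hπC' r, hπ'⟩

/-- Conversely. -/
theorem fibre_of_flat (f : X ⟶ Y) (g : Y ⟶ S) (x : X) (hg : (g.stalkMap (f x)).hom.Flat)
    (hf : (f.stalkMap x).hom.Flat) :
    ((f ≫ g).stalkMap x).hom.Flat ∧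
      ((MoreMor.fiberMap f g (g (f x))).stalkMap ((f ≫ g).asFiber x)).hom.Flat := by
  refine ⟨?_, (fiberMap_flat_iff f g _ _ x ((f ≫ g).fiberι_asFiber x)).mpr ?_⟩
  · rw [Scheme.Hom.stalkMap_comp]
    exact hg.comp hf
  · have hcomp : (f.stalkMap x).hom.comp (g.stalkMap (f x)).hom = ((f ≫ g).stalkMap x).hom := by
      rw [Scheme.Hom.stalkMap_comp]
      rfl
    have key : ∀ (I : Ideal (Y.presheaf.stalk (f x))) (J : Ideal (X.presheaf.stalk x))
        (h : I ≤ J.comap (f.stalkMap x).hom), J = I.map (f.stalkMap x).hom →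
        RingHom.Flat (R := Y.presheaf.stalk (f x) ⧸ I) (S := X.presheaf.stalk x ⧸ J)
          (Ideal.quotientMap J (f.stalkMap x).hom h) := by
      rintro I _ h rfl
      let := (f.stalkMap x).hom.toAlgebra
      have : Module.Flat (Y.presheaf.stalk (f x)) (X.presheaf.stalk x) := hf
      let e : (Y.presheaf.stalk (f x) ⧸ I) →+* (X.presheaf.stalk x ⧸ I.map (f.stalkMap x).hom) :=
        Ideal.quotientMap _ (f.stalkMap x).hom h
      show e.Flat
      exact flat_quotientMap_of_flat I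
    exact key _ _ _ (by rw [Ideal.map_map, hcomp]; rfl)

end Groth.Agent.GrpScheme.FlatFib
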