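import Mathlib.RingTheory.Flat.EquationalCriterion
import Mathlib.RingTheory.LocalRing.Basic
import Mathlib.RingTheory.Localization.AtPrime.Basic
import Mathlib.RingTheory.Ideal.Quotient.Operations
import Mathlib.RingTheory.RingHom.Flat
import Mathlib.RingTheory.Noetherian.Basic

/-!
# Localized quotients

`IsLQ π J`: the ring map `π : P →+* A` exhibits `A` as a localization of `P ⧸ J` at the
elements which become units in `A`.
-/

set_option autoImplicit false

universe u

namespace Groth.Agent.GrpScheme.FlatFib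

variable {P A : Type u} [CommRing P] [CommRing A]

/-- `A` is a localization of `P ⧸ J`, via `π`. -/
structure IsLQ (π : P →+* A) (J : Ideal P) : Prop where
  map_eq_zero : ∀ u ∈ J, π u = 0
  exists_mul_eq : ∀ a : A, ∃ u s : P, IsUnit (π s) ∧ π s * a = π u
  exists_mul_mem : ∀ u : P, π u = 0 → ∃ s : P, IsUnit (π s) ∧ s * u ∈ J

namespace IsLQ

variable {π : P →+* A} {J : Ideal P} (h : IsLQ π J)

include h

/-- Common denominators for finite families. -/
theorem exists_common {ι : Type*} [Finite ι] (a : ι → A) :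
    ∃ (s : P) (u : ι → P), IsUnit (π s) ∧ ∀ i, π s * a i = π (u i) := by
  classical
  have : Fintype ι := Fintype.ofFinite ι
  choose u s hs hu using fun i => h.exists_mul_eq (a i)
  refine ⟨∏ i, s i, fun i => (∏ j ∈ Finset.univ.erase i, s j) * u i, ?_, fun i => ?_⟩
  · rw [map_prod]
    exact IsUnit.prod_iff.mpr fun i _ => hs i
  · rw [← Finset.mul_prod_erase _ _ (Finset.mem_univ i), map_mul, map_mul, ← hu]
    ring

/-- Homomorphisms out of a localized quotient are determined on `P`. -/
theorem hom_ext {C : Type u} [CommRing C] {f g : A →+* C} (e : f.comp π = g.comp π) : f = g := by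
  refine RingHom.ext fun a => ?_
  obtain ⟨u, s, hs, hu⟩ := h.exists_mul_eq a
  have e' : ∀ x, f (π x) = g (π x) := fun x => RingHom.congr_fun e x
  have hg := congrArg g hu
  rw [map_mul, ← e', ← e'] at hg
  have hf := congrArg f hu
  rw [map_mul] at hf
  exact (hs.map f).mul_left_cancel (hf.trans hg.symm)

theorem exists_lift {C : Type u} [CommRing C] (g : P →+* C) (hJ : ∀ u ∈ J, g u = 0)
    (hu : ∀ s, IsUnit (π s) → IsUnit (g s)) : ∃ f : A →+* C, f.comp π = g := by
  choose num den hden heq using h.exists_mul_eq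
  have key : ∀ u u' : P, π u = π u' → g u = g u' := by
    intro u u' e
    obtain ⟨s, hs, hsJ⟩ := h.exists_mul_mem (u - u') (by rw [map_sub, e, sub_self])
    have := hJ _ hsJ
    rw [map_mul, (hu s hs).mul_right_eq_zero, map_sub, sub_eq_zero] at this
    exact this
  let f : A → C := fun a => ((hu _ (hden a)).unit⁻¹ : Cˣ) * g (num a)
  have hf : ∀ a u s, IsUnit (π s) → π s * a = π u → g s * f a = g u := by
    intro a u s hs e
    apply (hu _ (hden a)).mul_left_cancel
    have e2 : π (den a * u) = π (s * num a) := by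
      rw [map_mul, map_mul, ← e, ← heq]; ring
    have e3 := key _ _ e2
    rw [map_mul, map_mul] at e3
    rw [e3]
    calc g (den a) * (g s * f a) = g s * ((g (den a) * ((hu _ (hden a)).unit⁻¹ : Cˣ)) * g (num a)) := by
          simp only [f]; ring
      _ = g s * g (num a) := by rw [IsUnit.mul_val_inv, one_mul]
  have fπ : ∀ u, f (π u) = g u := fun u => by
    have := hf (π u) u 1 (by simp) (by simp)
    simpa using this
  refine ⟨{ toFun := f, map_one' := ?_, map_mul' := ?_, map_zero' := ?_, map_add' := ?_ },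
    RingHom.ext fπ⟩
  · simpa using fπ 1
  · intro a b
    have hs : IsUnit (π (den a * den b)) := by rw [map_mul]; exact (hden a).mul (hden b)
    have := hf (a * b) (num a * num b) _ hs (by rw [map_mul, map_mul, ← heq, ← heq]; ring)
    apply (hu _ hs).mul_left_cancel
    rw [this, map_mul, map_mul, ← hf a _ _ (hden a) (heq a), ← hf b _ _ (hden b) (heq b)]
    ring
  · simpa using fπ 0
  · intro a b
    have hs : IsUnit (π (den a * den b)) := by rw [map_mul]; exact (hden a).mul (hden b)
    have := hf (a + b) (num a * den b + num b * den a) _ hs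
      (by rw [map_add, map_mul, map_mul, map_mul, ← heq, ← heq]; ring)
    apply (hu _ hs).mul_left_cancel
    rw [this, map_add, map_mul, map_mul, map_mul, ← hf a _ _ (hden a) (heq a),
      ← hf b _ _ (hden b) (heq b)]
    ring

/-- A localized quotient of a Noetherian ring is Noetherian. -/
theorem isNoetherianRing [IsNoetherianRing P] : IsNoetherianRing A := by
  refine (isNoetherianRing_iff_ideal_fg A).mpr fun K => ?_
  have e : (K.comap π).map π = K := by
    refine le_antisymm Ideal.map_comap_le fun a ha => ?_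
    obtain ⟨u, s, hs, hu⟩ := h.exists_mul_eq a
    have hmem : π u ∈ (K.comap π).map π :=
      Ideal.mem_map_of_mem π (show u ∈ K.comap π by
        rw [Ideal.mem_comap, ← hu]; exact K.mul_mem_left _ ha)
    rw [← hu] at hmem
    exact (Ideal.unit_mul_mem_iff_mem _ hs).mp hmem
  rw [← e]
  exact Ideal.FG.map (IsNoetherian.noetherian (K.comap π) : (K.comap π).FG) π

/-- Zero criterion modulo a finitely generated extension of the ideal. -/
theorem quotient (I : Ideal P) :
    IsLQ ((Ideal.Quotient.mk (I.map π)).comp π) (J ⊔ I) where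
  map_eq_zero u hu := by
    obtain ⟨a, ha, b, hb, rfl⟩ := Submodule.mem_sup.mp hu
    simp [h.map_eq_zero a ha, Ideal.Quotient.eq_zero_iff_mem, Ideal.mem_map_of_mem π hb]
  exists_mul_eq a := by
    obtain ⟨a, rfl⟩ := Ideal.Quotient.mk_surjective a
    obtain ⟨u, s, hs, hu⟩ := h.exists_mul_eq a
    exact ⟨u, s, hs.map (Ideal.Quotient.mk (I.map π)), by simp [← map_mul, hu]⟩
  exists_mul_mem u hu := by
    rw [RingHom.comp_apply, Ideal.Quotient.eq_zero_iff_mem] at hu
    have key : ∀ x ∈ I.map π, ∃ s v, IsUnit (π s) ∧ v ∈ I ∧ π s * x = π v := by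
      intro x hx
      rw [Ideal.map] at hx
      induction hx using Submodule.span_induction with
      | mem z hz =>
        obtain ⟨v, hv, rfl⟩ := hz
        exact ⟨1, v, by simp, hv, by simp⟩
      | zero => exact ⟨1, 0, by simp, I.zero_mem, by simp⟩
      | add y z _ _ ihy ihz =>
        obtain ⟨s, v, hs, hv, e⟩ := ihy
        obtain ⟨s', v', hs', hv', e'⟩ := ihz
        refine ⟨s * s', s' * v + s * v', by rw [map_mul]; exact hs.mul hs',
          I.add_mem (I.mul_mem_left _ hv) (I.mul_mem_left _ hv'), ?_⟩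
        simp only [map_mul, map_add, ← e, ← e']; ring
      | smul a z _ ih =>
        obtain ⟨s, v, hs, hv, e⟩ := ih
        obtain ⟨c, t, ht, hc⟩ := h.exists_mul_eq a
        refine ⟨t * s, c * v, by rw [map_mul]; exact ht.mul hs, I.mul_mem_left _ hv, ?_⟩
        rw [smul_eq_mul, map_mul, map_mul, ← hc, ← e]; ring
    obtain ⟨s, v, hs, hv, e⟩ := key _ hu
    obtain ⟨t, ht, htJ⟩ := h.exists_mul_mem (s * u - v) (by rw [map_sub, map_mul, e, sub_self])
    refine ⟨t * s, (by rw [map_mul]; exact ht.mul hs : IsUnit (π (t * s))).map (Ideal.Quotient.mk (I.map π)), ?_⟩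
    have : t * s * u = t * (s * u - v) + t * v := by ring
    rw [this]
    exact Submodule.add_mem_sup htJ (I.mul_mem_left _ hv)

end IsLQ

/-- The localization of `P ⧸ J` at a prime containing `J`. -/
abbrev LQ (Q : Ideal P) [Q.IsPrime] (J : Ideal P) : Type u :=
  Localization.AtPrime Q ⧸ J.map (algebraMap P (Localization.AtPrime Q))

/-- The structure map of `LQ`. -/
noncomputable def LQ.mk (Q : Ideal P) [Q.IsPrime] (J : Ideal P) : P →+* LQ Q J :=
  (Ideal.Quotient.mk _).comp (algebraMap P (Localization.AtPrime Q))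

theorem LQ.map_le (Q : Ideal P) [Q.IsPrime] {J : Ideal P} (hJ : J ≤ Q) :
    J.map (algebraMap P (Localization.AtPrime Q)) ≤
      IsLocalRing.maximalIdeal (Localization.AtPrime Q) := by
  rw [← Localization.AtPrime.map_eq_maximalIdeal]
  exact Ideal.map_mono hJ

theorem LQ.isLocalRing (Q : Ideal P) [Q.IsPrime] {J : Ideal P} (hJ : J ≤ Q) :
    IsLocalRing (LQ Q J) := by
  have : Nontrivial (LQ Q J) := Ideal.Quotient.nontrivial_iff.mpr
    (ne_top_of_le_ne_top (IsLocalRing.maximalIdeal.isMaximal _).ne_top (LQ.map_le Q hJ))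
  exact IsLocalRing.of_surjective' (Ideal.Quotient.mk _) Ideal.Quotient.mk_surjective

theorem LQ.isUnit_mk_iff (Q : Ideal P) [Q.IsPrime] {J : Ideal P} (hJ : J ≤ Q) (s : P) :
    IsUnit (LQ.mk Q J s) ↔ s ∉ Q := by
  refine ⟨fun hu hs => ?_, fun hs => ?_⟩
  · obtain ⟨b, hb⟩ := hu.exists_right_inv
    obtain ⟨b, rfl⟩ := Ideal.Quotient.mk_surjective b
    rw [LQ.mk, RingHom.comp_apply, ← map_mul, ← map_one (Ideal.Quotient.mk _),
      Ideal.Quotient.eq] at hb
    have hsm : algebraMap P (Localization.AtPrime Q) s * b ∈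
        IsLocalRing.maximalIdeal (Localization.AtPrime Q) :=
      Ideal.mul_mem_right _ _ ((IsLocalization.AtPrime.to_map_mem_maximal_iff _ Q s).mpr hs)
    refine (IsLocalRing.maximalIdeal.isMaximal (Localization.AtPrime Q)).ne_top ?_
    rw [Ideal.eq_top_iff_one]
    have := Ideal.sub_mem _ hsm (LQ.map_le Q hJ hb)
    rwa [sub_sub_cancel] at this
  · exact (IsLocalization.map_units (Localization.AtPrime Q) (⟨s, hs⟩ : Q.primeCompl)).map
      (Ideal.Quotient.mk (J.map (algebraMap P (Localization.AtPrime Q))))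

theorem LQ.isLQ (Q : Ideal P) [Q.IsPrime] (J : Ideal P) : IsLQ (LQ.mk Q J) J := by
  have h0 : IsLQ (algebraMap P (Localization.AtPrime Q)) ⊥ :=
    { map_eq_zero := fun u hu => by rw [Ideal.mem_bot.mp hu, map_zero]
      exists_mul_eq := fun a => by
        obtain ⟨⟨u, s⟩, e⟩ := IsLocalization.surj Q.primeCompl a
        exact ⟨u, s, IsLocalization.map_units _ s, by rw [mul_comm]; exact e⟩
      exists_mul_mem := fun u hu => by
        obtain ⟨s, hs⟩ := (IsLocalization.map_eq_zero_iff Q.primeCompl _ u).mp hu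
        exact ⟨s, IsLocalization.map_units _ s, by rw [Ideal.mem_bot, hs]⟩ }
  simpa [LQ.mk] using h0.quotient J

/-- Flatness between localized quotients of a flat ring map. -/
theorem flat_of_isLQ {P' A' : Type u} [CommRing P'] [CommRing A'] {π : P →+* A}
    {π' : P' →+* A'} {J : Ideal P} {J' : Ideal P'} (hA : IsLQ π J) (hA' : IsLQ π' J')
    (φ : P →+* P') (ψ : A →+* A') (hcomm : ψ.comp π = π'.comp φ) (hJ : J' ≤ J.map φ)
    (hφ : φ.Flat) : ψ.Flat := by
  let := φ.toAlgebra
  let := ψ.toAlgebra
  have : Module.Flat P P' := hφ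
  show Module.Flat A A'
  refine Module.Flat.of_forall_isTrivialRelation fun {l a y} e => ?_
  obtain ⟨s, u, hs, hu⟩ := hA.exists_common a
  obtain ⟨s', w, hs', hw⟩ := hA'.exists_common y
  have hc : ∀ x, ψ (π x) = π' (φ x) := fun x => RingHom.congr_fun hcomm x
  have hz : π' (∑ i, φ (u i) * w i) = 0 := by
    rw [map_sum]
    have : ∀ i, π' (φ (u i) * w i) = (π' (φ s) * π' s') * (a i • y i) := fun i => by
      rw [map_mul, ← hc, ← hu, ← hw, map_mul, hc, Algebra.smul_def, RingHom.algebraMap_toAlgebra]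
      ring
    simp_rw [this, ← Finset.mul_sum, e, mul_zero]
  obtain ⟨t, ht, htJ⟩ := hA'.exists_mul_mem _ hz
  obtain ⟨m, g, c, hg, hgc⟩ : ∃ (m : ℕ) (g : Fin m → P) (c : Fin m → P'),
      (∀ k, g k ∈ J) ∧ t * ∑ i, φ (u i) * w i = ∑ k, φ (g k) * c k := by
    have hmem := hJ htJ
    rw [Ideal.map, Submodule.mem_span_image_iff_exists_fun] at hmem
    obtain ⟨S, hS, c, e⟩ := hmem
    refine ⟨_, fun k => (S.equivFin.symm k).1, fun k => c (S.equivFin.symm k),
      fun k => hS (S.equivFin.symm k).2, ?_⟩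
    rw [← e, ← S.equivFin.symm.sum_comp]
    exact Finset.sum_congr rfl fun k _ => by rw [smul_eq_mul, mul_comm]
  have hrel : ∑ i : Fin l ⊕ Fin m, Sum.elim u g i •
      Sum.elim (fun i => t * w i) (fun k => -c k) i = 0 := by
    rw [Fintype.sum_sum_type]
    simp only [Sum.elim_inl, Sum.elim_inr, Algebra.smul_def, RingHom.algebraMap_toAlgebra]
    have e1 : ∑ i, φ (u i) * (t * w i) = t * ∑ i, φ (u i) * w i := by
      rw [Finset.mul_sum]; exact Finset.sum_congr rfl fun i _ => by ring
    rw [e1, hgc, ← Finset.sum_add_distrib]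
    exact Finset.sum_eq_zero fun k _ => by ring
  obtain ⟨d, r, Y, hY, hr⟩ := Module.Flat.isTrivialRelation_of_sum_smul_eq_zero hrel
  obtain ⟨v, hv⟩ := hs.exists_right_inv
  obtain ⟨v', hv'⟩ := (ht.mul hs').exists_right_inv
  refine ⟨d, fun i j => π (r (.inl i) j), fun j => v' * π' (Y j), fun i => ?_, fun j => ?_⟩
  · have hYi := congrArg π' (hY (.inl i))
    simp only [Sum.elim_inl, map_mul, map_sum, Algebra.smul_def,
      RingHom.algebraMap_toAlgebra] at hYi
    calc y i = (π' t * π' s' * v') * y i := by rw [hv', one_mul]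
      _ = v' * (π' t * π' (w i)) := by rw [← hw]; ring
      _ = ∑ j, π (r (.inl i) j) • (v' * π' (Y j)) := by
        rw [hYi, Finset.mul_sum]
        refine Finset.sum_congr rfl fun j _ => ?_
        rw [Algebra.smul_def, RingHom.algebraMap_toAlgebra, hc]; ring
  · have := congrArg π (hr j)
    rw [map_zero, map_sum, Fintype.sum_sum_type] at this
    simp only [Sum.elim_inl, Sum.elim_inr, map_mul, hA.map_eq_zero _ (hg _), zero_mul,
      Finset.sum_const_zero, add_zero] at this
    calc ∑ i, a i * π (r (.inl i) j) = v * ∑ i, π (u i) * π (r (.inl i) j) := by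
          rw [Finset.mul_sum]
          refine Finset.sum_congr rfl fun i _ => ?_
          rw [← hu]
          calc a i * π (r (.inl i) j) = (π s * v) * (a i * π (r (.inl i) j)) := by rw [hv, one_mul]
            _ = _ := by ring
      _ = 0 := by rw [this, mul_zero]

end Groth.Agent.GrpScheme.FlatFib

namespace Groth.Agent.GrpScheme.FlatFib.IsLQ

variable {P A : Type u} [CommRing P] [CommRing A] {π : P →+* A} {J : Ideal P}

/-- A localized quotient factors through quotients of `P` by ideals inside `J`. -/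
theorem of_surjective (h : IsLQ π J) {P' : Type u} [CommRing P'] (q : P →+* P')
    (hq : Function.Surjective q) (hker : RingHom.ker q ≤ J) :
    ∃ π' : P' →+* A, π'.comp q = π ∧ IsLQ π' (J.map q) := by
  have hk : RingHom.ker q ≤ RingHom.ker π := fun v hv => h.map_eq_zero v (hker hv)
  let π' := q.liftOfSurjective hq ⟨π, hk⟩
  have hc : ∀ v, π' (q v) = π v := fun v => q.liftOfRightInverse_comp_apply _ _ ⟨π, hk⟩ v
  refine ⟨π', RingHom.ext hc, ⟨fun u hu => ?_, fun a => ?_, fun u hu => ?_⟩⟩
  · obtain ⟨v, hv, rfl⟩ := (Ideal.mem_map_iff_of_surjective q hq).mp hu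
    rw [hc, h.map_eq_zero v hv]
  · obtain ⟨v, t, ht, e⟩ := h.exists_mul_eq a
    exact ⟨q v, q t, by rwa [hc], by rw [hc, hc, e]⟩
  · obtain ⟨v, rfl⟩ := hq u
    rw [hc] at hu
    obtain ⟨t, ht, htv⟩ := h.exists_mul_mem v hu
    exact ⟨q t, by rwa [hc], by rw [← map_mul]; exact Ideal.mem_map_of_mem q htv⟩

omit [CommRing A] in
/-- The trivial localized quotient. -/
theorem id (P : Type u) [CommRing P] : IsLQ (RingHom.id P) ⊥ where
  map_eq_zero _ hu := Ideal.mem_bot.mp hu
  exists_mul_eq a := ⟨a, 1, by simp, one_mul a⟩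
  exists_mul_mem u hu := ⟨1, by simp, by simpa using hu⟩

end Groth.Agent.GrpScheme.FlatFib.IsLQ
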