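import Groth.Agent.GrpScheme.FlatFib.Fibre
import Groth.Agent.LocFlat.Fibre

/-!
# The fibrewise criterion of flatness for essentially finitely presented local algebras
-/

set_option autoImplicit false

universe u

open TensorProduct MvPolynomial

namespace Groth.Agent.GrpScheme.FlatFib

variable {R B A : Type u} [CommRing R] [IsLocalRing R] [CommRing B] [IsLocalRing B] [CommRing A]
  [IsLocalRing A] [Algebra R B] [Algebra R A] (X : Pres R B) (Y : Pres R A)

omit [IsLocalRing R] in
/-- A homomorphism is defined, compatibly, over all large stages. -/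
theorem exists_stageMaps (φ : B →+* A) [IsLocalHom φ]
    (hφ : φ.comp (algebraMap R B) = algebraMap R A) :
    ∃ (s₀ : Finset R) (Φ : ∀ s, s₀ ⊆ s → (X.M s →+* Y.M s)),
      (∀ s hs b, Y.toA s (Φ s hs b) = φ (X.toA s b)) ∧
      (∀ s hs, (Φ s hs).comp (X.str s) = Y.str s) ∧
      (∀ s hs t (hst : s ⊆ t) b, Y.trans hst (Φ s hs b) = Φ t (hs.trans hst) (X.trans hst b)) := by
  classical
  choose S hS using fun j : Fin X.n => Y.exists_preimage (φ (X.π (MvPolynomial.X j)))
  obtain ⟨s₁, hs₁⟩ := X.exists_eqs
  let s₂ := s₁ ∪ Finset.univ.biUnion S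
  choose y hy using fun j => hS j s₂ ((Finset.subset_biUnion_of_mem S (Finset.mem_univ j)).trans
    Finset.subset_union_right)
  obtain ⟨f', hf', hspan⟩ := hs₁ s₂ Finset.subset_union_left
  let ev : MvPolynomial (Fin X.n) (st s₂) →+* Y.M s₂ := eval₂Hom (Y.str s₂) y
  have key : ∀ (t : Finset R) (g : MvPolynomial (Fin X.n) (st t) →+* Y.M t),
      g.comp C = Y.str t → (∀ j, Y.toA t (g (MvPolynomial.X j)) = φ (X.π (MvPolynomial.X j))) →
      ∀ v, Y.toA t (g v) = φ (X.π (incl t v)) := by
    intro t g hC hX v
    refine RingHom.congr_fun (f := (Y.toA t).comp g) (g := φ.comp (X.π.comp (incl t)))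
      (MvPolynomial.ringHom_ext (fun r => ?_) fun j => ?_) v
    · have h1 := RingHom.congr_fun hC r
      have h2 := RingHom.congr_fun (Y.toA_comp_str t) r
      rw [RingHom.comp_apply] at h1 ⊢
      rw [h1]
      rw [RingHom.comp_apply] at h2
      rw [h2]
      simp only [RingHom.comp_apply, incl, MvPolynomial.map_C, X.π_C]
      rw [← hφ, RingHom.comp_apply]
    · simp only [RingHom.comp_apply, incl, MvPolynomial.map_X]
      exact hX j
  have hev : ∀ v, Y.toA s₂ (ev v) = φ (X.π (incl s₂ v)) :=
    key s₂ ev (RingHom.ext fun r => eval₂Hom_C _ _ r) fun j => by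
      rw [show ev (MvPolynomial.X j) = y j from eval₂Hom_X' _ _ j]; exact hy j
  have hz : ∀ i, Y.toA s₂ (ev (f' i)) = 0 := fun i => by
    rw [hev, hf', X.isLQ.map_eq_zero _ (Ideal.subset_span ⟨i, rfl⟩), map_zero]
  choose T _ hT' using fun i => Y.exists_eq_zero _ (hz i)
  let s₀ := s₂ ∪ Finset.univ.biUnion T
  have h02 : s₂ ⊆ s₀ := Finset.subset_union_left
  let evt : ∀ s, s₀ ⊆ s → MvPolynomial (Fin X.n) (st s) →+* Y.M s := fun s hs =>
    eval₂Hom (Y.str s) fun j => Y.trans (h02.trans hs) (y j)
  have hevt : ∀ s hs v, Y.toA s (evt s hs v) = φ (X.π (incl s v)) := fun s hs =>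
    key s _ (RingHom.ext fun r => eval₂Hom_C _ _ r) fun j => by
      rw [show evt s hs (MvPolynomial.X j) = Y.trans (h02.trans hs) (y j) from eval₂Hom_X' _ _ j,
        Y.toA_trans]
      exact hy j
  have hcomp : ∀ s hs v, evt s hs (MvPolynomial.map (stIncl (h02.trans hs)) v) =
      Y.trans (h02.trans hs) (ev v) := fun s hs v => by
    refine RingHom.congr_fun (f := (evt s hs).comp (MvPolynomial.map (stIncl (h02.trans hs))))
      (g := (Y.trans (h02.trans hs)).comp ev) (MvPolynomial.ringHom_ext (fun r => ?_) fun j => ?_) v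
    · simp only [RingHom.comp_apply, MvPolynomial.map_C, evt, ev, eval₂Hom_C]
      exact (RingHom.congr_fun (Y.trans_str (h02.trans hs)) r).symm
    · simp only [RingHom.comp_apply, MvPolynomial.map_X, evt, ev, eval₂Hom_X']
  have hlift : ∀ s hs, ∃ Φ : X.M s →+* Y.M s, Φ.comp (X.mkM s) = evt s hs := fun s hs => by
    refine (X.isLQ_mk s).exists_lift _ (fun v hv => ?_) fun v hv => ?_
    · induction hv using Submodule.span_induction with
      | mem z hzmem =>
        obtain ⟨i, hi⟩ := hzmem
        have hz' : z = MvPolynomial.map (stIncl (h02.trans hs)) (f' i) :=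
          incl_injective s (by rw [incl_map, hi, hf'])
        rw [hz', hcomp s hs]
        exact hT' i s (h02.trans hs) ((Finset.subset_biUnion_of_mem T (Finset.mem_univ i)).trans
          (Finset.subset_union_right.trans hs))
      | zero => simp
      | add p q _ _ h h' => simp [h, h']
      | smul a p _ h => simp [h]
    · refine IsUnit.of_map (Y.toA s) _ ?_
      rw [hevt s hs]
      exact ((X.isUnit_mk_iff s v).mp hv).map φ
  choose Φ hΦ using hlift
  refine ⟨s₀, Φ, fun s hs b => ?_, fun s hs => ?_, fun s hs t hst b => ?_⟩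
  · refine RingHom.congr_fun ((X.isLQ_mk s).hom_ext (f := (Y.toA s).comp (Φ s hs))
      (g := φ.comp (X.toA s)) (RingHom.ext fun v => ?_)) b
    simp only [RingHom.comp_apply]
    rw [← RingHom.comp_apply (Φ s hs), hΦ, hevt s hs, X.toA_mk]
  · rw [← RingHom.comp_assoc, hΦ]
    exact RingHom.ext fun r => eval₂Hom_C _ _ r
  · refine RingHom.congr_fun ((X.isLQ_mk s).hom_ext (f := (Y.trans hst).comp (Φ s hs))
      (g := (Φ t (hs.trans hst)).comp (X.trans hst)) (RingHom.ext fun v => ?_)) b
    simp only [RingHom.comp_apply, X.trans_mk]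
    rw [← RingHom.comp_apply (Φ s hs), hΦ, ← RingHom.comp_apply (Φ t _), hΦ]
    refine RingHom.congr_fun (f := (Y.trans hst).comp (evt s hs))
      (g := (evt t (hs.trans hst)).comp (MvPolynomial.map (stIncl hst)))
      (MvPolynomial.ringHom_ext (fun r => ?_) fun j => ?_) v
    · simp only [RingHom.comp_apply, MvPolynomial.map_C, evt, eval₂Hom_C]
      exact RingHom.congr_fun (Y.trans_str hst) r
    · simp only [RingHom.comp_apply, MvPolynomial.map_X, evt, eval₂Hom_X']
      exact Y.trans_trans _ _ _

/-- The Noetherian local criterion in `RingHom` form. -/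
theorem flat_of_noetherian {T M N : Type u} [CommRing T] [CommRing M] [CommRing N] [IsLocalRing T]
    [IsLocalRing M] [IsLocalRing N] [IsNoetherianRing T] [IsNoetherianRing M] [IsNoetherianRing N]
    (f : T →+* M) (g : M →+* N) [IsLocalHom f] [IsLocalHom g] (hflat : (g.comp f).Flat)
    (hfib : RingHom.Flat (R := M ⧸ (IsLocalRing.maximalIdeal T).map f)
      (S := N ⧸ ((IsLocalRing.maximalIdeal T).map f).map g)
      (Ideal.quotientMap _ g Ideal.le_comap_map)) :
    g.Flat := by
  algebraize [f, g, g.comp f]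
  have : Module.Flat T N := hflat
  have hfib' : Module.Flat (M ⧸ (IsLocalRing.maximalIdeal T).map f)
      ((M ⧸ (IsLocalRing.maximalIdeal T).map f) ⊗[M] N) :=
    flat_tensor_of_quotientMap _ hfib
  have : IsLocalHom (algebraMap T M) := ‹IsLocalHom f›
  have : IsLocalHom (algebraMap M N) := ‹IsLocalHom g›
  show Module.Flat M N
  exact LocFlat.flat_criterion (S := N) N _
    (LocFlat.map_le_jacobson _ (ne_top_of_le_ne_top (IsLocalRing.maximalIdeal.isMaximal M).ne_top
      (((IsLocalRing.local_hom_TFAE (algebraMap T M)).out 0 2).mp ‹_›)))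
    (LocFlat.rTensor_map_injective (IsLocalRing.maximalIdeal T) N) hfib'

/-- Fibrewise criterion of flatness for local homomorphisms `R → B → A`, `B` and `A` essentially
of finite presentation over `R`. -/
theorem fibre_criterion [IsLocalHom (algebraMap R B)] [IsLocalHom (algebraMap R A)] (φ : B →+* A)
    [IsLocalHom φ] (hφ : φ.comp (algebraMap R B) = algebraMap R A) (hA : (algebraMap R A).Flat)
    (hle : (IsLocalRing.maximalIdeal R).map (algebraMap R B) ≤
      ((IsLocalRing.maximalIdeal R).map (algebraMap R A)).comap φ)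
    (hfib : RingHom.Flat (R := B ⧸ (IsLocalRing.maximalIdeal R).map (algebraMap R B))
      (S := A ⧸ (IsLocalRing.maximalIdeal R).map (algebraMap R A))
      (Ideal.quotientMap _ φ hle))
    (X : Pres R B) (Y : Pres R A) : (algebraMap R B).Flat ∧ φ.Flat := by
  classical
  have : Module.Flat R A := RingHom.flat_algebraMap_iff.mp hA
  obtain ⟨s₁, Φ, hΦA, hΦC, hΦT⟩ := exists_stageMaps X Y φ hφ
  obtain ⟨s₂, hflat⟩ := Y.exists_flat
  obtain ⟨s₃, hBfib⟩ := X.exists_fibre_flat
  obtain ⟨s₄, hAfib⟩ := Y.exists_fibre_flat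
  let s₀ := (s₁ ∪ s₂) ∪ (s₃ ∪ s₄)
  have hstage : ∀ s (hs : s₀ ⊆ s), (Φ s (Finset.subset_union_left.trans
      (Finset.subset_union_left.trans hs))).Flat := by
    intro s hs
    have h := hs
    simp only [s₀, Finset.union_subset_iff] at h
    set g := Φ s (Finset.subset_union_left.trans (Finset.subset_union_left.trans hs)) with hg
    have := X.isLocalHom_str s
    have : IsLocalHom g := ⟨fun b hb => by
      refine IsUnit.of_map (X.toA s) b (IsUnit.of_map φ _ ?_)
      rw [← hΦA]
      exact hb.map _⟩
    have hgC : g.comp (X.str s) = Y.str s := hΦC s _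
    have hmap : ((IsLocalRing.maximalIdeal (st s)).map (X.str s)).map g =
        (IsLocalRing.maximalIdeal (st s)).map (Y.str s) := by
      rw [Ideal.map_map, hgC]
    refine flat_of_noetherian (X.str s) g (hgC ▸ hflat s h.1.2) ?_
    let ψA := Ideal.quotientMap _ (Y.toA s) (Y.map_maximalIdeal_le s)
    have : Nontrivial (Y.M s ⧸ ((IsLocalRing.maximalIdeal (st s)).map (X.str s)).map g) := by
      refine Ideal.Quotient.nontrivial_iff.mpr ?_
      rw [hmap]
      have := Y.isLocalHom_str s
      exact ne_top_of_le_ne_top (IsLocalRing.maximalIdeal.isMaximal _).ne_top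
        (((IsLocalRing.local_hom_TFAE (Y.str s)).out 0 2).mp this)
    have : IsLocalRing (Y.M s ⧸ ((IsLocalRing.maximalIdeal (st s)).map (X.str s)).map g) :=
      IsLocalRing.of_surjective' (Ideal.Quotient.mk _) Ideal.Quotient.mk_surjective
    have hne : (IsLocalRing.maximalIdeal R).map (algebraMap R A) ≠ ⊤ :=
      ne_top_of_le_ne_top (IsLocalRing.maximalIdeal.isMaximal _).ne_top
        (((IsLocalRing.local_hom_TFAE (algebraMap R A)).out 0 2).mp ‹IsLocalHom (algebraMap R A)›)
    have : Nontrivial (A ⧸ (IsLocalRing.maximalIdeal R).map (algebraMap R A)) :=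
      Ideal.Quotient.nontrivial_iff.mpr hne
    have : IsLocalRing (A ⧸ (IsLocalRing.maximalIdeal R).map (algebraMap R A)) :=
      IsLocalRing.of_surjective' (Ideal.Quotient.mk _) Ideal.Quotient.mk_surjective
    have hle' : ((IsLocalRing.maximalIdeal (st s)).map (X.str s)).map g ≤
        ((IsLocalRing.maximalIdeal R).map (algebraMap R A)).comap (Y.toA s) :=
      hmap ▸ Y.map_maximalIdeal_le s
    have := isLocalHom_quotientMap (Y.toA s)
      (((IsLocalRing.maximalIdeal (st s)).map (X.str s)).map g) _ hne hle'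
    refine flat_of_comp_flat_local _ (Ideal.quotientMap _ (Y.toA s) hle') ?_ ?_
    · have hYflat := hAfib s h.2.2
      have key : ∀ (I I' : Ideal (Y.M s)) (_ : I = I')
          (h₁ : I ≤ ((IsLocalRing.maximalIdeal R).map (algebraMap R A)).comap (Y.toA s))
          (h₂ : I' ≤ ((IsLocalRing.maximalIdeal R).map (algebraMap R A)).comap (Y.toA s)),
          RingHom.Flat (R := Y.M s ⧸ I) (S := A ⧸ (IsLocalRing.maximalIdeal R).map (algebraMap R A))
            (Ideal.quotientMap _ (Y.toA s) h₁) →
          RingHom.Flat (R := Y.M s ⧸ I') (S := A ⧸ (IsLocalRing.maximalIdeal R).map (algebraMap R A))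
            (Ideal.quotientMap _ (Y.toA s) h₂) := by
        rintro I I' rfl h₁ h₂ hI
        exact hI
      exact key _ _ hmap.symm _ _ hYflat
    · have e : (Ideal.quotientMap _ (Y.toA s) hle').comp
          (Ideal.quotientMap _ g Ideal.le_comap_map) =
          (Ideal.quotientMap _ φ hle).comp (Ideal.quotientMap _ (X.toA s) (X.map_maximalIdeal_le s)) := by
        refine RingHom.ext fun b => ?_
        obtain ⟨b, rfl⟩ := Ideal.Quotient.mk_surjective b
        simp only [RingHom.comp_apply, Ideal.quotientMap_mk]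
        exact congrArg _ (hΦA s _ b)
      rw [e]
      exact (hBfib s h.2.1).comp hfib
  have hφflat : φ.Flat := by
    let := φ.toAlgebra
    show Module.Flat B A
    refine Module.Flat.of_forall_isTrivialRelation fun {l b a} e => ?_
    choose Sb hSb using fun i => X.exists_preimage (b i)
    choose Sa hSa using fun i => Y.exists_preimage (a i)
    let s := s₀ ∪ (Finset.univ.biUnion Sb ∪ Finset.univ.biUnion Sa)
    choose b' hb' using fun i => hSb i s ((Finset.subset_biUnion_of_mem Sb (Finset.mem_univ i)).trans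
      (Finset.subset_union_left.trans Finset.subset_union_right))
    choose a' ha' using fun i => hSa i s ((Finset.subset_biUnion_of_mem Sa (Finset.mem_univ i)).trans
      (Finset.subset_union_right.trans Finset.subset_union_right))
    have h1 : s₁ ⊆ s := Finset.subset_union_left.trans
      (Finset.subset_union_left.trans Finset.subset_union_left)
    have hz : Y.toA s (∑ i, Φ s h1 (b' i) * a' i) = 0 := by
      rw [map_sum, ← e]
      refine Finset.sum_congr rfl fun i _ => ?_
      rw [map_mul, hΦA, hb', ha', Algebra.smul_def, RingHom.algebraMap_toAlgebra]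
    obtain ⟨w, -, hw⟩ := Y.exists_eq_zero _ hz
    have hst : s ⊆ s ∪ w := Finset.subset_union_left
    have h0 := hw (s ∪ w) hst Finset.subset_union_right
    rw [map_sum] at h0
    simp only [map_mul, hΦT s h1 (s ∪ w) hst] at h0
    have hfl := hstage (s ∪ w) ((Finset.subset_union_left (s₂ := _)).trans hst)
    algebraize [Φ (s ∪ w) (h1.trans hst)]
    have : Module.Flat (X.M (s ∪ w)) (Y.M (s ∪ w)) := hfl
    obtain ⟨d, r, y, hy, hr⟩ := Module.Flat.isTrivialRelation_of_sum_smul_eq_zero
      (R := X.M (s ∪ w)) (f := fun i => X.trans hst (b' i)) (x := fun i => Y.trans hst (a' i))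
      (by simpa only [Algebra.smul_def, RingHom.algebraMap_toAlgebra] using h0)
    refine ⟨d, fun i j => X.toA _ (r i j), fun j => Y.toA _ (y j), fun i => ?_, fun j => ?_⟩
    · have := congrArg (Y.toA (s ∪ w)) (hy i)
      simp only [Y.toA_trans, ha', map_sum] at this
      rw [this]
      refine Finset.sum_congr rfl fun j _ => ?_
      simp only [Algebra.smul_def, RingHom.algebraMap_toAlgebra, map_mul, hΦA]
    · have := congrArg (X.toA (s ∪ w)) (hr j)
      rw [map_zero, map_sum] at this
      rw [← this]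
      exact Finset.sum_congr rfl fun i _ => by rw [map_mul, X.toA_trans, hb']
  refine ⟨?_, hφflat⟩
  exact flat_of_comp_flat_local (algebraMap R B) φ hφflat (hφ ▸ hA)

end Groth.Agent.GrpScheme.FlatFib
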