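import Groth.Agent.GrpScheme.FlatFib.Criterion
import Mathlib.RingTheory.Localization.AtPrime.Basic
import Mathlib.RingTheory.Polynomial.Basic

/-!
# The fibrewise criterion with an essentially finite type middle algebra; presentations of
localizations
-/

set_option autoImplicit false

universe u

open MvPolynomial

namespace Groth.Agent.GrpScheme.FlatFib

/-- Fibrewise criterion of flatness with `B` only essentially of finite type over `R`. -/
theorem fibre_criterion_ft {R B A : Type u} [CommRing R] [IsLocalRing R] [CommRing B]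
    [IsLocalRing B] [CommRing A] [IsLocalRing A] [Algebra R B] [Algebra R A]
    [IsLocalHom (algebraMap R B)] [IsLocalHom (algebraMap R A)] (φ : B →+* A)
    [IsLocalHom φ] (hφ : φ.comp (algebraMap R B) = algebraMap R A) (hA : (algebraMap R A).Flat)
    (hle : (IsLocalRing.maximalIdeal R).map (algebraMap R B) ≤
      ((IsLocalRing.maximalIdeal R).map (algebraMap R A)).comap φ)
    (hfib : RingHom.Flat (R := B ⧸ (IsLocalRing.maximalIdeal R).map (algebraMap R B))
      (S := A ⧸ (IsLocalRing.maximalIdeal R).map (algebraMap R A))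
      (Ideal.quotientMap _ φ hle))
    {n : ℕ} (π : MvPolynomial (Fin n) R →+* B) (hπC : π.comp C = algebraMap R B)
    (J : Ideal (MvPolynomial (Fin n) R)) (hπ : IsLQ π J) (Y : Pres R A) :
    (algebraMap R B).Flat ∧ φ.Flat := by
  classical
  let m := IsLocalRing.maximalIdeal R
  let := Ideal.Quotient.field m
  let q := MvPolynomial.map (σ := Fin n) (Ideal.Quotient.mk m)
  have hq : Function.Surjective q := MvPolynomial.map_surjective _ Ideal.Quotient.mk_surjective
  obtain ⟨k, gb, hgb⟩ : ∃ (k : ℕ) (gb : Fin k → MvPolynomial (Fin n) (R ⧸ m)),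
      Ideal.span (Set.range gb) = J.map q :=
    Submodule.fg_iff_exists_fin_generating_family.mp (IsNoetherian.noetherian (J.map q))
  choose g hgJ hgq using fun i => (Ideal.mem_map_iff_of_surjective q hq).mp
    (show gb i ∈ J.map q from hgb ▸ Ideal.subset_span ⟨i, rfl⟩)
  have hker : RingHom.ker q = m.map C := by rw [MvPolynomial.ker_map, Ideal.mk_ker]
  have hJ : J ⊔ m.map C ≤ Ideal.span (Set.range g) ⊔ m.map C := by
    refine sup_le (fun v hv => ?_) le_sup_right
    have : q v ∈ (Ideal.span (Set.range g)).map q := by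
      rw [Ideal.map_span, ← Set.range_comp, show q ∘ g = gb from funext hgq, hgb]
      exact Ideal.mem_map_of_mem q hv
    rwa [← Ideal.mem_comap, Ideal.comap_map_of_surjective _ hq, ← RingHom.ker_eq_comap_bot, hker]
      at this
  let Q := (IsLocalRing.maximalIdeal B).comap π
  have hgQ : Ideal.span (Set.range g) ≤ Q := by
    rw [Ideal.span_le]
    rintro - ⟨i, rfl⟩
    show π (g i) ∈ IsLocalRing.maximalIdeal B
    rw [hπ.map_eq_zero _ (hgJ i)]
    exact Submodule.zero_mem _
  let B' := LQ Q (Ideal.span (Set.range g))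
  let mk' := LQ.mk Q (Ideal.span (Set.range g))
  have hB' : IsLQ mk' (Ideal.span (Set.range g)) := LQ.isLQ _ _
  have : IsLocalRing B' := LQ.isLocalRing Q hgQ
  have hunit : ∀ v, IsUnit (mk' v) ↔ IsUnit (π v) := fun v => by
    rw [LQ.isUnit_mk_iff Q hgQ]
    exact IsLocalRing.notMem_maximalIdeal
  obtain ⟨ρ, hρ⟩ := hB'.exists_lift π (fun v hv => hπ.map_eq_zero v
    (Ideal.span_le.mpr (by rintro - ⟨i, rfl⟩; exact hgJ i) hv)) fun v hv => (hunit v).mp hv
  have hρ' : ∀ v, ρ (mk' v) = π v := fun v => RingHom.congr_fun hρ v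
  have hmkC : mk'.comp C = algebraMap R B' := by
    rw [← MvPolynomial.algebraMap_eq]
    exact (LQ.algebraMap_eq Q _).symm
  have hρR : ρ.comp (algebraMap R B') = algebraMap R B := by
    rw [← hmkC, ← RingHom.comp_assoc, hρ, hπC]
  have : IsLocalHom ρ := ⟨fun b hb => by
    obtain ⟨v, t, ht, hv⟩ := hB'.exists_mul_eq b
    have : IsUnit (mk' v) := by
      rw [hunit, ← hρ', ← hv, map_mul]
      exact (ht.map ρ).mul hb
    rw [← hv] at this
    exact isUnit_of_mul_isUnit_right this⟩
  have hρsurj : Function.Surjective ρ := fun b => by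
    obtain ⟨v, t, ht, hv⟩ := hπ.exists_mul_eq b
    have hu := (hunit t).mpr ht
    refine ⟨(hu.unit⁻¹ : B'ˣ) * mk' v, ht.mul_left_cancel ?_⟩
    rw [map_mul, ← mul_assoc, hv, ← hρ' t, ← map_mul, IsUnit.mul_val_inv, map_one, one_mul, hρ']
  have hloc : IsLocalHom (algebraMap R B') :=
    ⟨fun r hr => by
      refine IsUnit.of_map (algebraMap R B) r ?_
      rw [← hρR]
      exact hr.map ρ⟩
  have : IsLocalHom (φ.comp ρ) := inferInstance
  have hle' : m.map (algebraMap R B') ≤ (m.map (algebraMap R A)).comap (φ.comp ρ) := by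
    rw [Ideal.map_le_iff_le_comap, Ideal.comap_comap, RingHom.comp_assoc, hρR, hφ]
    exact Ideal.le_comap_map
  have hleρ : m.map (algebraMap R B') ≤ (m.map (algebraMap R B)).comap ρ := by
    rw [Ideal.map_le_iff_le_comap, Ideal.comap_comap, hρR]
    exact Ideal.le_comap_map
  have hbij : Function.Bijective (Ideal.quotientMap _ ρ hleρ) := by
    refine ⟨?_, Ideal.quotientMap_surjective hρsurj⟩
    refine Ideal.quotientMap_injective' fun b hb => ?_
    rw [Ideal.mem_comap] at hb
    obtain ⟨v, t, ht, hv⟩ := hB'.exists_mul_eq b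
    have h1 : π v ∈ (m.map C).map π := by
      rw [Ideal.map_map, hπC, ← hρ', ← hv, map_mul]
      exact Ideal.mul_mem_left _ _ hb
    have h2 : IsLQ (A := B ⧸ (m.map C).map π) ((Ideal.Quotient.mk _).comp π) (J ⊔ m.map C) :=
      hπ.quotient _
    obtain ⟨e, he, hmem⟩ := h2.exists_mul_mem v (by
      rw [RingHom.comp_apply, Ideal.Quotient.eq_zero_iff_mem]; exact h1)
    have he' : IsUnit (π e) := by
      rw [RingHom.comp_apply] at he
      by_contra hne
      obtain ⟨c, hc⟩ := he.exists_right_inv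
      obtain ⟨c, rfl⟩ := Ideal.Quotient.mk_surjective c
      rw [← map_mul, ← map_one (Ideal.Quotient.mk _), Ideal.Quotient.eq] at hc
      refine (IsLocalRing.maximalIdeal.isMaximal B).ne_top ((Ideal.eq_top_iff_one _).mpr ?_)
      have hle₂ : (m.map C).map π ≤ IsLocalRing.maximalIdeal B := by
        rw [Ideal.map_map, hπC]
        exact ((IsLocalRing.local_hom_TFAE (algebraMap R B)).out 0 2).mp ‹IsLocalHom (algebraMap R B)›
      have := Ideal.sub_mem _ (Ideal.mul_mem_right c _ ((IsLocalRing.mem_maximalIdeal _).mpr hne))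
        (hle₂ hc)
      rwa [sub_sub_cancel] at this
    have h3 := Ideal.mem_map_of_mem mk' (hJ hmem)
    rw [Ideal.map_sup, Ideal.map_map (f := C) (g := mk'), hmkC,
      (Ideal.map_eq_bot_iff_le_ker mk').mpr (fun w hw => hB'.map_eq_zero w hw), bot_sup_eq, map_mul,
      ← hv, ← mul_assoc] at h3
    exact (Ideal.unit_mul_mem_iff_mem _ (((hunit e).mpr he').mul ht)).mp h3
  let X' : Pres R B' := ⟨mk', g, fun r => RingHom.congr_fun hmkC r, hB'⟩
  obtain ⟨hB'flat, hφρ⟩ := fibre_criterion (φ.comp ρ)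
    (by rw [RingHom.comp_assoc, hρR, hφ]) hA hle' (by
      have hc : Ideal.quotientMap (m.map (algebraMap R A)) (φ.comp ρ) hle' =
          (Ideal.quotientMap (m.map (algebraMap R A)) φ hle).comp (Ideal.quotientMap _ ρ hleρ) := by
        refine RingHom.ext fun b => ?_
        obtain ⟨b, rfl⟩ := Ideal.Quotient.mk_surjective b
        rfl
      rw [hc]
      exact (RingHom.Flat.of_bijective hbij).comp hfib) X' Y
  have hinj : Function.Injective ρ := by
    have : Function.Injective (φ.comp ρ) := by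
      algebraize [φ.comp ρ]
      have : Module.Flat B' A := hφρ
      have : IsLocalHom (algebraMap B' A) := ‹IsLocalHom (φ.comp ρ)›
      have := Module.FaithfullyFlat.of_flat_of_isLocalHom (A := B') (B := A)
      exact FaithfulSMul.algebraMap_injective B' A
    exact fun x y h => this (congrArg φ h)
  exact ⟨hρR ▸ hB'flat.comp (.of_bijective ⟨hinj, hρsurj⟩),
    (RingHom.Flat.comp_iff_of_bijective_right ⟨hinj, hρsurj⟩).mp hφρ⟩

/-- A presentation of an algebra gives a presentation of its local rings over the local rings of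
the base. -/
theorem isLQ_localization {R₀ A₀ R A : Type u} [CommRing R₀] [CommRing A₀] [CommRing R]
    [CommRing A] [Algebra R₀ R] [Algebra A₀ A] (p : Ideal A₀) [p.IsPrime]
    [IsLocalization.AtPrime A p] (ψ : R₀ →+* A₀) [IsLocalization.AtPrime R (p.comap ψ)]
    (Ψ : R →+* A) (hΨ : ∀ r, Ψ (algebraMap R₀ R r) = algebraMap A₀ A (ψ r)) {n : ℕ}
    (π₀ : MvPolynomial (Fin n) R₀ →+* A₀) (hπ₀ : π₀.comp C = ψ) (hsurj : Function.Surjective π₀) :
    ∃ π : MvPolynomial (Fin n) R →+* A, π.comp C = Ψ ∧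
      IsLQ π ((RingHom.ker π₀).map (MvPolynomial.map (algebraMap R₀ R))) := by
  let i := algebraMap R₀ R
  let π : MvPolynomial (Fin n) R →+* A :=
    eval₂Hom Ψ fun j => algebraMap A₀ A (π₀ (MvPolynomial.X j))
  have hcomp : ∀ v, π (MvPolynomial.map i v) = algebraMap A₀ A (π₀ v) := fun v => by
    refine RingHom.congr_fun (f := π.comp (MvPolynomial.map i))
      (g := (algebraMap A₀ A).comp π₀) (MvPolynomial.ringHom_ext (fun r => ?_) fun j => ?_) v
    · simp only [RingHom.comp_apply, MvPolynomial.map_C, π, eval₂Hom_C, i]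
      rw [hΨ, ← hπ₀]
      rfl
    · simp only [RingHom.comp_apply, MvPolynomial.map_X, π, eval₂Hom_X']
  have hclear : ∀ u : MvPolynomial (Fin n) R, ∃ (c : R₀) (u₀ : MvPolynomial (Fin n) R₀),
      c ∉ p.comap ψ ∧ C (i c) * u = MvPolynomial.map i u₀ := by
    intro u
    induction u using MvPolynomial.induction_on' with
    | monomial a r =>
      obtain ⟨⟨r₀, c⟩, hc⟩ := IsLocalization.surj (p.comap ψ).primeCompl r
      refine ⟨c, monomial a r₀, c.2, ?_⟩
      rw [C_mul_monomial, MvPolynomial.map_monomial, mul_comm]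
      exact congrArg (monomial a) hc
    | add x y hx hy =>
      obtain ⟨c, x₀, hc, hx⟩ := hx
      obtain ⟨d, y₀, hd, hy⟩ := hy
      refine ⟨c * d, C d * x₀ + C c * y₀, (p.comap ψ).primeCompl.mul_mem hc hd, ?_⟩
      simp only [map_mul, map_add, MvPolynomial.map_C, ← hx, ← hy]
      ring
  refine ⟨π, RingHom.ext fun r => eval₂Hom_C _ _ r, ⟨fun u hu => ?_, fun a => ?_, fun u hu => ?_⟩⟩
  · induction hu using Submodule.span_induction with
    | mem z hz =>
      obtain ⟨v, hv, rfl⟩ := hz
      rw [hcomp, RingHom.mem_ker.mp hv, map_zero]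
    | zero => simp
    | add x y _ _ h h' => simp [h, h']
    | smul a x _ h => simp [h]
  · obtain ⟨⟨u₀, s₀⟩, hs⟩ := IsLocalization.surj p.primeCompl a
    obtain ⟨u, hu⟩ := hsurj u₀
    obtain ⟨s, hs'⟩ := hsurj (s₀ : A₀)
    refine ⟨MvPolynomial.map i u, MvPolynomial.map i s, ?_, ?_⟩
    · rw [hcomp, hs']
      exact IsLocalization.map_units A s₀
    · rw [hcomp, hcomp, hu, hs', mul_comm]
      exact hs
  · obtain ⟨c, u₀, hc, he⟩ := hclear u
    have h0 : algebraMap A₀ A (π₀ u₀) = 0 := by rw [← hcomp, ← he, map_mul, hu, mul_zero]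
    obtain ⟨t, ht⟩ := (IsLocalization.map_eq_zero_iff p.primeCompl A _).mp h0
    obtain ⟨t₀, ht₀⟩ := hsurj (t : A₀)
    refine ⟨MvPolynomial.map i t₀ * C (i c), ?_, ?_⟩
    · rw [map_mul, hcomp, ht₀, show π (C (i c)) = Ψ (i c) from eval₂Hom_C _ _ _, hΨ]
      exact (IsLocalization.map_units A t).mul
        (IsLocalization.map_units A (⟨ψ c, hc⟩ : p.primeCompl))
    · rw [mul_assoc, he, ← map_mul]
      exact Ideal.mem_map_of_mem _ (by rw [RingHom.mem_ker, map_mul, ht₀, ht])

end Groth.Agent.GrpScheme.FlatFib
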