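import Groth.Agent.GrpScheme.FlatFib.StageFlat
import Groth.Agent.Thick.FlatCancel

/-!
# Closed fibres and maps of stage models
-/

set_option autoImplicit false

universe u

open TensorProduct MvPolynomial

namespace Groth.Agent.GrpScheme.FlatFib

/-- Cancellation of a flat local homomorphism. -/
theorem flat_of_comp_flat_local {A B C : Type u} [CommRing A] [CommRing B] [CommRing C]
    [IsLocalRing B] [IsLocalRing C] (f : A →+* B) (g : B →+* C) [IsLocalHom g] (hg : g.Flat)
    (hgf : (g.comp f).Flat) : f.Flat := by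
  algebraize [f, g, g.comp f]
  have : Module.Flat B C := hg
  have : Module.Flat A C := hgf
  have : IsLocalHom (algebraMap B C) := ‹IsLocalHom g›
  have := Module.FaithfullyFlat.of_flat_of_isLocalHom (A := B) (B := C)
  exact Groth.Agent.Thick.FlatCancel.module_flat_of_comp A B C

/-- A local homomorphism stays local modulo proper ideals. -/
theorem isLocalHom_quotientMap {A B : Type u} [CommRing A] [CommRing B] [IsLocalRing B]
    (f : A →+* B) [IsLocalHom f] (I : Ideal A) (J : Ideal B) (hJ : J ≠ ⊤) (h : I ≤ J.comap f) :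
    IsLocalHom (Ideal.quotientMap J f h) := by
  refine ⟨fun x hx => ?_⟩
  obtain ⟨a, rfl⟩ := Ideal.Quotient.mk_surjective x
  rw [Ideal.quotientMap_mk] at hx
  refine IsUnit.map (Ideal.Quotient.mk I) (IsUnit.of_map f a ?_)
  obtain ⟨b, hb⟩ := hx.exists_right_inv
  obtain ⟨b, rfl⟩ := Ideal.Quotient.mk_surjective b
  rw [← map_mul, ← map_one (Ideal.Quotient.mk J), Ideal.Quotient.eq] at hb
  by_contra hu
  refine (IsLocalRing.maximalIdeal.isMaximal B).ne_top ((Ideal.eq_top_iff_one _).mpr ?_)
  have := Ideal.sub_mem _ (Ideal.mul_mem_right b _ ((IsLocalRing.mem_maximalIdeal _).mpr hu))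
    (IsLocalRing.le_maximalIdeal hJ hb)
  rwa [sub_sub_cancel] at this

/-- Flatness of `S' / I S'` over `S / I`, in tensor form. -/
theorem flat_tensor_of_quotientMap {S S' : Type u} [CommRing S] [CommRing S'] [Algebra S S']
    (I : Ideal S)
    (h : (Ideal.quotientMap (I.map (algebraMap S S')) (algebraMap S S') Ideal.le_comap_map).Flat) :
    Module.Flat (S ⧸ I) ((S ⧸ I) ⊗[S] S') := by
  let Q := I.map (algebraMap S S')
  have h' : (algebraMap (S ⧸ I) (S' ⧸ Q)).Flat := by
    convert h using 1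
    refine RingHom.ext fun x => ?_
    obtain ⟨x, rfl⟩ := Ideal.Quotient.mk_surjective x
    rfl
  rw [RingHom.flat_algebraMap_iff] at h'
  let e : ((S ⧸ I) ⊗[S] S') ≃ₗ[S] (S' ⧸ Q) :=
    ((TensorProduct.quotTensorEquivQuotSMul S' I).trans
      (Submodule.quotEquivOfEq _ _ (Ideal.smul_top_eq_map I))).trans
      (Submodule.Quotient.restrictScalarsEquiv S Q)
  exact Module.Flat.of_linearEquiv
    (e.extendScalarsOfSurjective (R := S) (S := S ⧸ I) Ideal.Quotient.mk_surjective)

/-- Reduction of a localized quotient of a polynomial ring modulo an ideal of the coefficients. -/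
theorem isLQ_mod {T M : Type u} [CommRing T] [CommRing M] {n : ℕ}
    {π : MvPolynomial (Fin n) T →+* M} {J : Ideal (MvPolynomial (Fin n) T)} (h : IsLQ π J)
    (m : Ideal T) (Q : Ideal M) (hQ : Q = m.map (π.comp C)) :
    ∃ π' : MvPolynomial (Fin n) (T ⧸ m) →+* M ⧸ Q,
      π'.comp (MvPolynomial.map (Ideal.Quotient.mk m)) = (Ideal.Quotient.mk Q).comp π ∧
      IsLQ π' (J.map (MvPolynomial.map (Ideal.Quotient.mk m))) := by
  have hQ' : Q = (m.map C).map π := by rw [hQ, Ideal.map_map]
  have h' : IsLQ (A := M ⧸ Q) ((Ideal.Quotient.mk Q).comp π) (J ⊔ m.map C) := by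
    rw [hQ']; exact h.quotient _
  have hk : RingHom.ker (MvPolynomial.map (σ := Fin n) (Ideal.Quotient.mk m)) = m.map C := by
    rw [MvPolynomial.ker_map, Ideal.mk_ker]
  obtain ⟨π', hπ', hLQ⟩ := h'.of_surjective _
    (MvPolynomial.map_surjective _ Ideal.Quotient.mk_surjective) (hk.le.trans le_sup_right)
  refine ⟨π', hπ', ?_⟩
  rwa [Ideal.map_sup, (Ideal.map_eq_bot_iff_le_ker _).mpr hk.ge, sup_bot_eq] at hLQ

/-- Base change along a field extension of the coefficients, on localized quotients modulo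
maximal ideals. -/
theorem flat_mod_base_change {T R M A : Type u} [CommRing T] [CommRing R] [CommRing M] [CommRing A]
    {n : ℕ} {πT : MvPolynomial (Fin n) T →+* M} {JT : Ideal (MvPolynomial (Fin n) T)}
    (hT : IsLQ πT JT) {πR : MvPolynomial (Fin n) R →+* A} {JR : Ideal (MvPolynomial (Fin n) R)}
    (hR : IsLQ πR JR) (i : T →+* R) (mT : Ideal T) [mT.IsMaximal] (mR : Ideal R)
    (hm : mT ≤ mR.comap i) (hJ : JR ≤ JT.map (MvPolynomial.map i)) (ψ : M →+* A)
    (hψ : ∀ v, ψ (πT v) = πR (MvPolynomial.map i v)) (QT : Ideal M)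
    (hQT : QT = mT.map (πT.comp C)) (QR : Ideal A) (hQR : QR = mR.map (πR.comp C))
    (hle : QT ≤ QR.comap ψ) : (Ideal.quotientMap QR ψ hle).Flat := by
  let := Ideal.Quotient.field mT
  obtain ⟨π₁, h₁, hLQ₁⟩ := isLQ_mod hT mT QT hQT
  obtain ⟨π₂, h₂, hLQ₂⟩ := isLQ_mod hR mR QR hQR
  let φ := Ideal.quotientMap mR i hm
  have hφ : φ.Flat := by
    let := φ.toAlgebra
    exact (inferInstance : Module.Flat (T ⧸ mT) (R ⧸ mR))
  have hsq : ∀ v, MvPolynomial.map (Ideal.Quotient.mk mR) (MvPolynomial.map i v) =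
      MvPolynomial.map φ (MvPolynomial.map (σ := Fin n) (Ideal.Quotient.mk mT) v) := fun v => by
    simp only [MvPolynomial.map_map]
    rfl
  refine flat_of_isLQ hLQ₁ hLQ₂ (MvPolynomial.map φ) _ ?_ ?_ (flat_mvPolynomial_map φ hφ n)
  · refine RingHom.ext fun w => ?_
    obtain ⟨v, rfl⟩ := MvPolynomial.map_surjective _ Ideal.Quotient.mk_surjective w
    rw [RingHom.comp_apply, RingHom.comp_apply, ← hsq, ← RingHom.comp_apply π₁, h₁,
      ← RingHom.comp_apply π₂, h₂, RingHom.comp_apply, RingHom.comp_apply, Ideal.quotientMap_mk, hψ]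
  · rw [Ideal.map_le_iff_le_comap]
    refine fun x hx => ?_
    have : x ∈ JT.map (MvPolynomial.map i) := hJ hx
    have hcomp : (MvPolynomial.map (Ideal.Quotient.mk mR)).comp (MvPolynomial.map i) =
        (MvPolynomial.map φ).comp (MvPolynomial.map (σ := Fin n) (Ideal.Quotient.mk mT)) :=
      RingHom.ext hsq
    rw [Ideal.mem_comap, Ideal.map_map, ← hcomp, ← Ideal.map_map]
    exact Ideal.mem_map_of_mem _ this

namespace Pres

variable {R A : Type u} [CommRing R] [IsLocalRing R] [CommRing A] [IsLocalRing A] [Algebra R A]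
  (X : Pres R A)

omit [IsLocalRing R] in
/-- The structure map after a transition. -/
theorem trans_str {s t : Finset R} (h : s ⊆ t) :
    (X.trans h).comp (X.str s) = (X.str t).comp (stIncl h) :=
  RingHom.ext fun a => by
    simp only [RingHom.comp_apply, trans_mk, MvPolynomial.map_C]

omit [IsLocalRing R] in
theorem trans_trans {s t w : Finset R} (h : s ⊆ t) (h' : t ⊆ w) (a : X.M s) :
    X.trans h' (X.trans h a) = X.trans (h.trans h') a := by
  refine RingHom.congr_fun ((X.isLQ_mk s).hom_ext (f := (X.trans h').comp (X.trans h))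
    (g := X.trans (h.trans h')) (RingHom.ext fun v => ?_)) a
  simp only [RingHom.comp_apply, trans_mk]
  exact congrArg (X.mkM w) (incl_injective w (by simp only [incl_map]))

omit [IsLocalRing R] [IsLocalRing A] in
theorem π_comp_C : X.π.comp C = algebraMap R A := RingHom.ext X.π_C

theorem map_maximalIdeal_le (s : Finset R) :
    (IsLocalRing.maximalIdeal (st s)).map (X.str s) ≤
      ((IsLocalRing.maximalIdeal R).map (algebraMap R A)).comap (X.toA s) := by
  rw [Ideal.map_le_iff_le_comap]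
  intro x hx
  rw [Ideal.mem_comap, Ideal.mem_comap, ← RingHom.comp_apply, toA_comp_str, RingHom.comp_apply]
  refine Ideal.mem_map_of_mem _ ?_
  rw [IsLocalRing.mem_maximalIdeal, mem_nonunits_iff] at hx ⊢
  exact fun hu => hx ((isUnit_st_iff x).mpr hu)

/-- The closed fibre of a large stage maps flatly to the closed fibre. -/
theorem exists_fibre_flat :
    ∃ s₀ : Finset R, ∀ s, s₀ ⊆ s →
      RingHom.Flat (R := X.M s ⧸ (IsLocalRing.maximalIdeal (st s)).map (X.str s))
        (S := A ⧸ (IsLocalRing.maximalIdeal R).map (algebraMap R A))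
        (Ideal.quotientMap _ (X.toA s) (X.map_maximalIdeal_le s)) := by
  obtain ⟨s₀, hs₀⟩ := X.exists_eqs
  refine ⟨s₀, fun s hs => ?_⟩
  obtain ⟨f', hf', hspan⟩ := hs₀ s hs
  refine flat_mod_base_change (X.isLQ_mk s) X.isLQ (st s).subtype
    (IsLocalRing.maximalIdeal (st s)) (IsLocalRing.maximalIdeal R) ?_ ?_ (X.toA s) (X.toA_mk s)
    _ rfl _ (by rw [X.π_comp_C]) _
  · intro x hx
    rw [Ideal.mem_comap, IsLocalRing.mem_maximalIdeal, mem_nonunits_iff]
    rw [IsLocalRing.mem_maximalIdeal, mem_nonunits_iff] at hx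
    exact fun hu => hx ((isUnit_st_iff x).mpr hu)
  · rw [Ideal.span_le]
    rintro - ⟨i, rfl⟩
    rw [← hf' i, hspan]
    exact Ideal.mem_map_of_mem _ (Ideal.subset_span ⟨i, rfl⟩)

end Pres

end Groth.Agent.GrpScheme.FlatFib
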