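import Groth.Agent.GrpScheme.FlatFib.Basic
import Mathlib.RingTheory.TensorProduct.MvPolynomial
import Mathlib.RingTheory.MvPolynomial.Basic
import Mathlib.RingTheory.Flat.Stability
import Mathlib.LinearAlgebra.Basis.VectorSpace
import Mathlib.LinearAlgebra.Projection

/-!
# Auxiliary flatness lemmas for polynomial rings
-/

set_option autoImplicit false

universe u

open TensorProduct

namespace Groth.Agent.GrpScheme.FlatFib

/-- Polynomial rings preserve flatness of ring maps. -/
theorem flat_mvPolynomial_map {k B : Type u} [CommRing k] [CommRing B] (φ : k →+* B) (hφ : φ.Flat)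
    (n : ℕ) : (MvPolynomial.map φ : MvPolynomial (Fin n) k →+* MvPolynomial (Fin n) B).Flat := by
  let := φ.toAlgebra
  have : Module.Flat k B := hφ
  let := MvPolynomial.algebraMvPolynomial (σ := Fin n) (R := k) (S := B)
  show Module.Flat (MvPolynomial (Fin n) k) (MvPolynomial (Fin n) B)
  have h : Algebra.IsPushout k (MvPolynomial (Fin n) k) B (MvPolynomial (Fin n) B) := inferInstance
  exact Module.Flat.of_linearEquiv h.out.equiv.symm

/-- Over a field, `B[x] / (J)` is flat over `B` for an ideal `J` of `k[x]`. -/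
theorem flat_quotient_map {k B : Type u} [Field k] [CommRing B] (φ : k →+* B) (n : ℕ)
    (J : Ideal (MvPolynomial (Fin n) k)) :
    ((Ideal.Quotient.mk (J.map (MvPolynomial.map φ))).comp MvPolynomial.C).Flat := by
  classical
  set J' : Ideal (MvPolynomial (Fin n) B) := J.map (MvPolynomial.map φ)
  have hC : (Ideal.Quotient.mk J').comp MvPolynomial.C =
      algebraMap B (MvPolynomial (Fin n) B ⧸ J') := rfl
  rw [hC, RingHom.flat_algebraMap_iff]
  let Jk : Submodule k (MvPolynomial (Fin n) k) := J.restrictScalars k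
  obtain ⟨W, hW⟩ := Submodule.exists_isCompl Jk
  let p : MvPolynomial (Fin n) k →ₗ[k] MvPolynomial (Fin n) k :=
    W.subtype.comp (W.projectionOnto Jk hW.symm)
  have hpJ : ∀ q ∈ J, p q = 0 := fun q hq => by
    have : W.projectionOnto Jk hW.symm q = 0 :=
      Submodule.projectionOnto_apply_right hW.symm ⟨q, hq⟩
    simp [p, this]
  have hp : ∀ q, q - p q ∈ J := fun q => by
    have : q - p q ∈ LinearMap.ker (W.projectionOnto Jk hW.symm) := by
      rw [LinearMap.mem_ker, map_sub]
      exact sub_eq_zero.mpr (Submodule.projectionOnto_apply_left hW.symm _).symm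
    rwa [Submodule.ker_projectionOnto] at this
  let p' : MvPolynomial (Fin n) B →ₗ[B] MvPolynomial (Fin n) B :=
    (MvPolynomial.basisMonomials (Fin n) B).constr B
      fun a => MvPolynomial.map φ (p (MvPolynomial.monomial a 1))
  have hsm : ∀ (c : k) (q : MvPolynomial (Fin n) k),
      MvPolynomial.map φ (c • q) = φ c • MvPolynomial.map φ q := fun c q => by
    rw [MvPolynomial.smul_eq_C_mul, map_mul, MvPolynomial.map_C, MvPolynomial.smul_eq_C_mul]
  have hmono : ∀ a t, (MvPolynomial.monomial a t : MvPolynomial (Fin n) B) =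
      t • MvPolynomial.map φ (MvPolynomial.monomial a 1) := fun a t => by
    simp [MvPolynomial.smul_monomial]
  have hp'1 : ∀ a, p' (MvPolynomial.map φ (MvPolynomial.monomial a 1)) =
      MvPolynomial.map φ (p (MvPolynomial.monomial a 1)) := fun a => by
    have := (MvPolynomial.basisMonomials (Fin n) B).constr_basis B
      (fun a => MvPolynomial.map φ (p (MvPolynomial.monomial a 1))) a
    rw [MvPolynomial.coe_basisMonomials] at this
    simpa using this
  have hp'map : ∀ q, p' (MvPolynomial.map φ q) = MvPolynomial.map φ (p q) := by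
    intro q
    induction q using MvPolynomial.induction_on' with
    | monomial a c =>
      have : (MvPolynomial.monomial a c : MvPolynomial (Fin n) k) =
          c • MvPolynomial.monomial a 1 := by simp [MvPolynomial.smul_monomial]
      rw [this, hsm, map_smul, map_smul, hp'1, hsm]
    | add x y hx hy => simp [hx, hy]
  have hp'J : ∀ v ∈ J', p' v = 0 := by
    intro v hv
    have key : ∀ c, ∀ q ∈ J, p' (c * MvPolynomial.map φ q) = 0 := by
      intro c q hq
      induction c using MvPolynomial.induction_on' with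
      | monomial a t =>
        rw [hmono, smul_mul_assoc, map_smul, ← map_mul, hp'map,
          hpJ _ (J.mul_mem_left _ hq), map_zero, smul_zero]
      | add x y hx hy => rw [add_mul, map_add, hx, hy, add_zero]
    have : ∀ c, p' (c * v) = 0 := by
      induction hv using Submodule.span_induction with
      | mem z hz =>
        obtain ⟨q, hq, rfl⟩ := hz
        exact fun c => key c q hq
      | zero => intro c; rw [mul_zero, map_zero]
      | add y z _ _ h h' => intro c; rw [mul_add, map_add, h, h', add_zero]
      | smul a z _ h => intro c; rw [smul_eq_mul, ← mul_assoc]; exact h _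
    simpa using this 1
  have hp' : ∀ v, v - p' v ∈ J' := by
    intro v
    induction v using MvPolynomial.induction_on' with
    | monomial a t =>
      rw [hmono, map_smul, hp'1, ← smul_sub, ← map_sub]
      exact Submodule.smul_of_tower_mem _ _ (Ideal.mem_map_of_mem _ (hp _))
    | add x y hx hy =>
      have := J'.add_mem hx hy
      rwa [map_add, add_sub_add_comm]
  have hsmul : ∀ (t : B) v, t • Ideal.Quotient.mk J' v = Ideal.Quotient.mk J' (t • v) :=
    fun t v => rfl
  refine Module.Flat.of_forall_isTrivialRelation fun {l t x} e => ?_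
  choose v hv using fun i => Ideal.Quotient.mk_surjective (x i)
  have h0 : ∑ i, t i • p' (v i) = 0 := by
    simp_rw [← map_smul, ← map_sum]
    refine hp'J _ ?_
    rw [← Ideal.Quotient.eq_zero_iff_mem, map_sum, ← e]
    exact Finset.sum_congr rfl fun i _ => by rw [← hsmul, hv]
  obtain ⟨d, r, y, hy, hr⟩ := Module.Flat.isTrivialRelation_of_sum_smul_eq_zero h0
  refine ⟨d, r, fun j => Ideal.Quotient.mk J' (y j), fun i => ?_, hr⟩
  rw [← hv, Ideal.Quotient.eq.mpr (hp' (v i)), show p' (v i) = _ from hy i, map_sum]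
  exact Finset.sum_congr rfl fun j _ => (hsmul _ _).symm

/-- Every tensor with an ideal spanned by `g` is a combination of the `g i ⊗ a i`. -/
theorem exists_sum_tmul {T M : Type u} [CommRing T] [AddCommGroup M] [Module T M] {r : ℕ}
    (g : Fin r → T) (I : Ideal T) (hg : ∀ i, g i ∈ I) (hI : I ≤ Ideal.span (Set.range g))
    (z : I ⊗[T] M) : ∃ a : Fin r → M, z = ∑ i, (⟨g i, hg i⟩ : I) ⊗ₜ a i := by
  induction z with
  | zero => exact ⟨0, by simp⟩
  | tmul j m =>
    obtain ⟨c, hc⟩ := Ideal.mem_span_range_iff_exists_fun.mp (hI j.2)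
    refine ⟨fun i => c i • m, ?_⟩
    have : j = ∑ i, c i • (⟨g i, hg i⟩ : I) := Subtype.ext (by simp [hc])
    rw [this, TensorProduct.sum_tmul]
    exact Finset.sum_congr rfl fun i _ => TensorProduct.smul_tmul _ _ _
  | add x y hx hy =>
    obtain ⟨a, ha⟩ := hx
    obtain ⟨b, hb⟩ := hy
    exact ⟨a + b, by simp [ha, hb, TensorProduct.tmul_add, Finset.sum_add_distrib]⟩

/-- Trivial relations give vanishing tensors in `I ⊗ M`. -/
theorem sum_tmul_eq_zero {T M : Type u} [CommRing T] [AddCommGroup M] [Module T M] {r : ℕ}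
    (g : Fin r → T) (I : Ideal T) (hg : ∀ i, g i ∈ I) (m : Fin r → M)
    (h : Module.IsTrivialRelation g m) : ∑ i, (⟨g i, hg i⟩ : I) ⊗ₜ[T] m i = 0 := by
  obtain ⟨d, a, y, hy, ha⟩ := h
  calc ∑ i, (⟨g i, hg i⟩ : I) ⊗ₜ[T] m i
      = ∑ i, ∑ j, (a i j • (⟨g i, hg i⟩ : I)) ⊗ₜ[T] y j := by
        refine Finset.sum_congr rfl fun i _ => ?_
        rw [hy, TensorProduct.tmul_sum]
        exact Finset.sum_congr rfl fun j _ => (TensorProduct.smul_tmul _ _ _).symm
    _ = ∑ j, (∑ i, a i j • (⟨g i, hg i⟩ : I)) ⊗ₜ[T] y j := by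
        rw [Finset.sum_comm]
        exact Finset.sum_congr rfl fun j _ => (TensorProduct.sum_tmul _ _ _).symm
    _ = 0 := Finset.sum_eq_zero fun j _ => by
        rw [show (∑ i, a i j • (⟨g i, hg i⟩ : I)) = 0 from Subtype.ext (by
          simpa [mul_comm] using ha j), TensorProduct.zero_tmul]

end Groth.Agent.GrpScheme.FlatFib
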