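import Groth.Agent.GrpScheme.FlatFib.Stage

/-!
# Models of localized finitely presented algebras over stages
-/

set_option autoImplicit false

universe u

namespace Groth.Agent.GrpScheme.FlatFib

open MvPolynomial

theorem LQ.algebraMap_eq {T P : Type u} [CommRing T] [CommRing P] [Algebra T P] (Q : Ideal P)
    [Q.IsPrime] (J : Ideal P) :
    algebraMap T (LQ Q J) = (LQ.mk Q J).comp (algebraMap T P) :=
  RingHom.ext fun t => congrArg (Ideal.Quotient.mk _)
    (IsScalarTower.algebraMap_apply T P (Localization.AtPrime Q) t)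

/-- A presentation of a local `R`-algebra `A` as a localization of `R[x] / (f)`. -/
structure Pres (R A : Type u) [CommRing R] [CommRing A] [Algebra R A] where
  {n : ℕ}
  {k : ℕ}
  π : MvPolynomial (Fin n) R →+* A
  f : Fin k → MvPolynomial (Fin n) R
  π_C : ∀ r, π (C r) = algebraMap R A r
  isLQ : IsLQ π (Ideal.span (Set.range f))

namespace Pres

variable {R A : Type u} [CommRing R] [IsLocalRing R] [CommRing A] [IsLocalRing A] [Algebra R A]
  (X : Pres R A)

/-- The prime of the stage. -/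
noncomputable abbrev prime (s : Finset R) : Ideal (MvPolynomial (Fin X.n) (st s)) :=
  (IsLocalRing.maximalIdeal A).comap (X.π.comp (incl s))

/-- The equations of the stage. -/
noncomputable abbrev eqs (s : Finset R) : Ideal (MvPolynomial (Fin X.n) (st s)) :=
  Ideal.span {v | ∃ i, incl s v = X.f i}

omit [IsLocalRing R] [IsLocalRing A] in
theorem π_eqs (s : Finset R) : ∀ v ∈ X.eqs s, X.π (incl s v) = 0 := by
  intro v hv
  induction hv using Submodule.span_induction with
  | mem z hz =>
    obtain ⟨i, hi⟩ := hz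
    rw [hi]
    exact X.isLQ.map_eq_zero _ (Ideal.subset_span ⟨i, rfl⟩)
  | zero => simp
  | add y z _ _ h h' => simp [h, h']
  | smul a z _ h => simp [h]

omit [IsLocalRing R] in
theorem eqs_le (s : Finset R) : X.eqs s ≤ X.prime s := fun v hv => by
  show X.π (incl s v) ∈ IsLocalRing.maximalIdeal A
  rw [X.π_eqs s v hv]
  exact Submodule.zero_mem _

/-- The model over a stage. -/
abbrev M (s : Finset R) : Type u := LQ (X.prime s) (X.eqs s)

/-- Polynomials of the stage in the model. -/
noncomputable abbrev mkM (s : Finset R) : MvPolynomial (Fin X.n) (st s) →+* X.M s :=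
  LQ.mk (X.prime s) (X.eqs s)

omit [IsLocalRing R] in
theorem isLQ_mk (s : Finset R) : IsLQ (X.mkM s) (X.eqs s) := LQ.isLQ _ _

instance (s : Finset R) : IsLocalRing (X.M s) := LQ.isLocalRing _ (X.eqs_le s)

instance (s : Finset R) : IsNoetherianRing (X.M s) := (X.isLQ_mk s).isNoetherianRing

omit [IsLocalRing R] in
theorem isUnit_mk_iff (s : Finset R) (v : MvPolynomial (Fin X.n) (st s)) :
    IsUnit (X.mkM s v) ↔ IsUnit (X.π (incl s v)) := by
  rw [LQ.isUnit_mk_iff _ (X.eqs_le s)]
  exact IsLocalRing.notMem_maximalIdeal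

omit [IsLocalRing R] in
theorem exists_toA (s : Finset R) : ∃ ψ : X.M s →+* A, ψ.comp (X.mkM s) = X.π.comp (incl s) :=
  (X.isLQ_mk s).exists_lift _ (X.π_eqs s) fun v hv => (X.isUnit_mk_iff s v).mp hv

/-- The map from the model. -/
noncomputable def toA (s : Finset R) : X.M s →+* A := (X.exists_toA s).choose

omit [IsLocalRing R] in
theorem toA_mk (s : Finset R) (v : MvPolynomial (Fin X.n) (st s)) :
    X.toA s (X.mkM s v) = X.π (incl s v) :=
  RingHom.congr_fun (X.exists_toA s).choose_spec v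

instance (s : Finset R) : IsLocalHom (X.toA s) := ⟨fun a ha => by
  obtain ⟨u, t, ht, hu⟩ := (X.isLQ_mk s).exists_mul_eq a
  have : IsUnit (X.mkM s u) := by
    rw [isUnit_mk_iff, ← toA_mk, ← hu, map_mul]
    exact (ht.map _).mul ha
  rw [← hu] at this
  exact isUnit_of_mul_isUnit_right this⟩

/-- The structure map of the model. -/
noncomputable abbrev str (s : Finset R) : st s →+* X.M s := (X.mkM s).comp C

omit [IsLocalRing R] in
theorem algebraMap_M (s : Finset R) : algebraMap (st s) (X.M s) = X.str s := by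
  rw [str, ← MvPolynomial.algebraMap_eq]
  exact LQ.algebraMap_eq (X.prime s) (X.eqs s)

omit [IsLocalRing R] in
theorem smul_mk (s : Finset R) (a : st s) (x : X.M s) : a • x = X.mkM s (C a) * x := by
  refine (Algebra.smul_def a x).trans ?_
  rw [algebraMap_M]
  exact congrArg (· * x) (RingHom.comp_apply _ _ _)

omit [IsLocalRing R] in
theorem toA_comp_str (s : Finset R) :
    (X.toA s).comp (X.str s) = (algebraMap R A).comp (st s).subtype :=
  RingHom.ext fun r => by simp [toA_mk, incl, X.π_C]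

omit [IsLocalRing R] in
theorem isLocalHom_str [IsLocalHom (algebraMap R A)] (s : Finset R) : IsLocalHom (X.str s) :=
  ⟨fun r hr => by
    have h : IsUnit (algebraMap R A ((st s).subtype r)) := by
      rw [← RingHom.comp_apply, ← X.toA_comp_str]
      exact hr.map (X.toA s)
    exact (isUnit_map_iff (st s).subtype r).mp ((isUnit_map_iff (algebraMap R A) _).mp h)⟩

section Transition

variable {s t : Finset R} (h : s ⊆ t)

omit [IsLocalRing R] in
theorem exists_trans : ∃ χ : X.M s →+* X.M t,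
    χ.comp (X.mkM s) = (X.mkM t).comp (MvPolynomial.map (stIncl h)) := by
  refine (X.isLQ_mk s).exists_lift _ (fun v hv => ?_) fun v hv => ?_
  · induction hv using Submodule.span_induction with
    | mem z hz =>
      obtain ⟨i, hi⟩ := hz
      exact (X.isLQ_mk t).map_eq_zero _
        (Ideal.subset_span ⟨i, (incl_map h z).trans hi⟩)
    | zero => simp
    | add y z _ _ h h' => simp only [map_add, h, h', add_zero]
    | smul a z _ h => simp only [smul_eq_mul, map_mul, h, mul_zero]
  · rw [RingHom.comp_apply, isUnit_mk_iff, incl_map, ← isUnit_mk_iff]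
    exact hv

/-- The transition map. -/
noncomputable def trans : X.M s →+* X.M t := (X.exists_trans h).choose

omit [IsLocalRing R] in
theorem trans_mk (v : MvPolynomial (Fin X.n) (st s)) :
    X.trans h (X.mkM s v) = X.mkM t (MvPolynomial.map (stIncl h) v) :=
  RingHom.congr_fun (X.exists_trans h).choose_spec v

omit [IsLocalRing R] in
theorem toA_trans (a : X.M s) : X.toA t (X.trans h a) = X.toA s a := by
  refine RingHom.congr_fun ((X.isLQ_mk s).hom_ext (f := (X.toA t).comp (X.trans h))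
    (g := X.toA s) (RingHom.ext fun v => ?_)) a
  simp [trans_mk, toA_mk, incl_map]

end Transition

omit [IsLocalRing R] [IsLocalRing A] in
/-- The equations are defined over a stage. -/
theorem exists_eqs : ∃ s₀ : Finset R, ∀ s, s₀ ⊆ s →
    ∃ f' : Fin X.k → MvPolynomial (Fin X.n) (st s),
      (∀ i, incl s (f' i) = X.f i) ∧ X.eqs s = Ideal.span (Set.range f') := by
  obtain ⟨s₀, hs₀⟩ := exists_stage X.f
  refine ⟨s₀, fun s hs => ?_⟩
  choose f' hf' using hs₀ s hs
  refine ⟨f', hf', congrArg Ideal.span (Set.ext fun v => ⟨fun ⟨i, hi⟩ => ⟨i, ?_⟩, ?_⟩)⟩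
  · exact incl_injective s ((hf' i).trans hi.symm)
  · rintro ⟨i, rfl⟩; exact ⟨i, hf' i⟩

omit [IsLocalRing R] in
/-- Elements come from stages. -/
theorem exists_preimage (a : A) : ∃ s₀ : Finset R, ∀ s, s₀ ⊆ s → ∃ b, X.toA s b = a := by
  obtain ⟨u, t, ht, hu⟩ := X.isLQ.exists_mul_eq a
  obtain ⟨s₀, hs₀⟩ := exists_stage ![u, t]
  refine ⟨s₀, fun s hs => ?_⟩
  obtain ⟨u', hu'⟩ : ∃ v, incl s v = u := hs₀ s hs 0
  obtain ⟨t', ht'⟩ : ∃ v, incl s v = t := hs₀ s hs 1
  have hu1 : IsUnit (X.mkM s t') := by rwa [isUnit_mk_iff, ht']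
  refine ⟨(hu1.unit⁻¹ : (X.M s)ˣ) * X.mkM s u', ht.mul_left_cancel ?_⟩
  rw [map_mul, ← mul_assoc, hu, ← ht', ← toA_mk, ← map_mul, IsUnit.mul_val_inv, map_one, one_mul,
    toA_mk, hu']

omit [IsLocalRing R] in
/-- An element killed in `A` is killed at a stage. -/
theorem exists_eq_zero {s : Finset R} (b : X.M s) (hb : X.toA s b = 0) :
    ∃ s₀ : Finset R, s ⊆ s₀ ∧ ∀ (t : Finset R) (h : s ⊆ t), s₀ ⊆ t → X.trans h b = 0 := by
  classical
  obtain ⟨u, d, hd, hu⟩ := (X.isLQ_mk s).exists_mul_eq b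
  have hπ : X.π (incl s u) = 0 := by rw [← toA_mk, ← hu, map_mul, hb, mul_zero]
  obtain ⟨e, he, hmem⟩ := X.isLQ.exists_mul_mem _ hπ
  obtain ⟨c, hc⟩ := Ideal.mem_span_range_iff_exists_fun.mp hmem
  obtain ⟨s₁, hs₁⟩ := exists_stage (Sum.elim ![e] c)
  obtain ⟨s₂, hs₂⟩ := X.exists_eqs
  refine ⟨s ∪ (s₁ ∪ s₂), Finset.subset_union_left, fun t h ht => ?_⟩
  rw [Finset.union_subset_iff, Finset.union_subset_iff] at ht
  obtain ⟨f', hf', hspan⟩ := hs₂ t ht.2.2
  obtain ⟨e', he'⟩ : ∃ v, incl t v = e := hs₁ t ht.2.1 (.inl 0)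
  choose c' hc' using fun i => hs₁ t ht.2.1 (.inr i)
  have hz : e' * MvPolynomial.map (stIncl h) u ∈ X.eqs t := by
    rw [hspan, Ideal.mem_span_range_iff_exists_fun]
    refine ⟨c', incl_injective t ?_⟩
    rw [map_mul, map_sum, incl_map, he', ← hc]
    exact Finset.sum_congr rfl fun i _ => by rw [map_mul, hc', hf']; rfl
  have h0 : X.trans h (X.mkM s u) = 0 := by
    have := (X.isLQ_mk t).map_eq_zero _ hz
    rw [map_mul, ((X.isUnit_mk_iff t e').mpr (he'.symm ▸ he)).mul_right_eq_zero] at this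
    rw [trans_mk, this]
  rw [← hu, map_mul] at h0
  exact (hd.map _).mul_right_eq_zero.mp h0

end Pres

end Groth.Agent.GrpScheme.FlatFib
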