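import Groth.Agent.GrpScheme.FlatFib.Basic
import Mathlib.RingTheory.FiniteType
import Mathlib.RingTheory.Polynomial.Basic
import Mathlib.Algebra.MvPolynomial.Eval
import Mathlib.RingTheory.LocalRing.RingHom.Basic

/-!
# Noetherian local stages of a local ring

For a local ring `R` and a finite subset `s`, `st s` is the subring of fractions `a / b` with `a`,
`b` in the subring generated by `s` and `b` a unit of `R`.
-/

set_option autoImplicit false

universe u

namespace Groth.Agent.GrpScheme.FlatFib

variable {R : Type u} [CommRing R] [IsLocalRing R]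

/-- The subring generated by a finite set. -/
abbrev cl (s : Finset R) : Subring R := Subring.closure (s : Set R)

instance (s : Finset R) : IsNoetherianRing (cl s) := by
  have e : Subring.closure (s : Set R) =
      (MvPolynomial.eval₂Hom (Int.castRingHom R) (fun x : s => (x : R))).range := by
    refine le_antisymm (Subring.closure_le.mpr fun x hx => ⟨MvPolynomial.X ⟨x, hx⟩, by simp⟩) ?_
    rintro - ⟨p, rfl⟩
    induction p using MvPolynomial.induction_on with
    | C a =>
      rw [MvPolynomial.eval₂Hom_C]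
      exact intCast_mem _ a
    | add p q hp hq => rw [map_add]; exact add_mem hp hq
    | mul_X p x hp =>
      rw [map_mul, MvPolynomial.eval₂Hom_X']
      exact mul_mem hp (Subring.subset_closure x.2)
  exact isNoetherianRing_of_surjective _ _
    ((RingEquiv.subringCongr e.symm).toRingHom.comp
      (MvPolynomial.eval₂Hom (Int.castRingHom R) (fun x : s => (x : R))).rangeRestrict)
    ((RingEquiv.subringCongr e.symm).surjective.comp (RingHom.rangeRestrict_surjective _))

omit [IsLocalRing R] in
theorem exists_st (s : Finset R) :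
    ∃ T : Subring R, ∀ x, x ∈ T ↔ ∃ a ∈ cl s, ∃ b ∈ cl s, IsUnit b ∧ b * x = a := by
  refine ⟨{
    carrier := {x | ∃ a ∈ cl s, ∃ b ∈ cl s, IsUnit b ∧ b * x = a}
    mul_mem' := ?_
    one_mem' := ⟨1, one_mem _, 1, one_mem _, isUnit_one, one_mul 1⟩
    add_mem' := ?_
    zero_mem' := ⟨0, zero_mem _, 1, one_mem _, isUnit_one, mul_zero 1⟩
    neg_mem' := ?_ }, fun x => Iff.rfl⟩
  · rintro x y ⟨a, ha, b, hb, hbu, e⟩ ⟨c, hc, d, hd, hdu, e'⟩
    exact ⟨a * c, mul_mem ha hc, b * d, mul_mem hb hd, hbu.mul hdu, by rw [← e, ← e']; ring⟩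
  · rintro x y ⟨a, ha, b, hb, hbu, e⟩ ⟨c, hc, d, hd, hdu, e'⟩
    exact ⟨a * d + c * b, add_mem (mul_mem ha hd) (mul_mem hc hb), b * d, mul_mem hb hd,
      hbu.mul hdu, by rw [← e, ← e']; ring⟩
  · rintro x ⟨a, ha, b, hb, hbu, e⟩
    exact ⟨-a, neg_mem ha, b, hb, hbu, by rw [← e]; ring⟩

/-- The stage of a finite set: fractions with unit denominators (kept opaque). -/
noncomputable irreducible_def st (s : Finset R) : Subring R := (exists_st s).choose

omit [IsLocalRing R] in
theorem mem_st {s : Finset R} {x : R} :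
    x ∈ st s ↔ ∃ a ∈ cl s, ∃ b ∈ cl s, IsUnit b ∧ b * x = a :=
  by rw [st_def]; exact (exists_st s).choose_spec x

omit [IsLocalRing R] in
theorem cl_le_st (s : Finset R) : cl s ≤ st s :=
  fun x hx => mem_st.mpr ⟨x, hx, 1, one_mem _, isUnit_one, one_mul x⟩

omit [IsLocalRing R] in
theorem subset_st {s : Finset R} {x : R} (hx : x ∈ s) : x ∈ st s :=
  cl_le_st s (Subring.subset_closure hx)

omit [IsLocalRing R] in
theorem st_mono {s t : Finset R} (h : s ⊆ t) : st s ≤ st t := by
  intro x hx
  obtain ⟨a, ha, b, hb, hbu, e⟩ := mem_st.mp hx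
  have := Subring.closure_mono (R := R) (Finset.coe_subset.mpr h)
  exact mem_st.mpr ⟨a, this ha, b, this hb, hbu, e⟩

omit [IsLocalRing R] in
theorem isUnit_st_iff {s : Finset R} (x : st s) : IsUnit x ↔ IsUnit (x : R) := by
  refine ⟨fun h => h.map (st s).subtype, fun h => ?_⟩
  obtain ⟨a, ha, b, hb, hbu, e⟩ := mem_st.mp x.2
  obtain ⟨y, hy⟩ := h.exists_right_inv
  have hau : IsUnit a := e ▸ hbu.mul h
  exact IsUnit.of_mul_eq_one (⟨y, mem_st.mpr ⟨b, hb, a, ha, hau, by
    rw [← e, mul_assoc, hy, mul_one]⟩⟩ : st s) (Subtype.ext hy)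

instance (s : Finset R) : IsLocalHom (st s).subtype := ⟨fun x h => (isUnit_st_iff x).mpr h⟩

instance (s : Finset R) : IsLocalRing (st s) := RingHom.domain_isLocalRing (st s).subtype

instance (s : Finset R) : IsNoetherianRing (st s) := by
  have h : IsLQ (Subring.inclusion (cl_le_st s)) (⊥ : Ideal (cl s)) :=
    { map_eq_zero := fun u hu => by rw [Ideal.mem_bot.mp hu, map_zero]
      exists_mul_eq := fun x => by
        obtain ⟨a, ha, b, hb, hbu, e⟩ := mem_st.mp x.2
        exact ⟨⟨a, ha⟩, ⟨b, hb⟩, (isUnit_st_iff _).mpr hbu, Subtype.ext e⟩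
      exists_mul_mem := fun u hu => ⟨1, by simp, by
        rw [Ideal.mem_bot, one_mul]
        exact Subtype.ext (congrArg (fun z : st s => (z : R)) hu)⟩ }
  exact h.isNoetherianRing

omit [IsLocalRing R] in
theorem subtype_comp_inclusion (T T' : Subring R) (h : T ≤ T') :
    T'.subtype.comp (Subring.inclusion h) = T.subtype := rfl

omit [IsLocalRing R] in
theorem isLocalHom_inclusion (T T' : Subring R) (h : T ≤ T') [IsLocalHom T.subtype] :
    IsLocalHom (Subring.inclusion h) :=
  ⟨fun x hx => (isUnit_map_iff T.subtype x).mp (hx.map T'.subtype)⟩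

/-- The inclusion of a stage in a larger one. -/
noncomputable abbrev stIncl {s t : Finset R} (h : s ⊆ t) : st s →+* st t :=
  Subring.inclusion (st_mono h)

omit [IsLocalRing R] in
theorem subtype_comp_stIncl {s t : Finset R} (h : s ⊆ t) :
    (st t).subtype.comp (stIncl h) = (st s).subtype :=
  subtype_comp_inclusion _ _ (st_mono h)

instance {s t : Finset R} (h : s ⊆ t) : IsLocalHom (stIncl h) :=
  isLocalHom_inclusion _ _ (st_mono h)

variable {n : ℕ}

/-- Polynomials over a stage, in the polynomials over `R`. -/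
noncomputable abbrev incl (s : Finset R) :
    MvPolynomial (Fin n) (st s) →+* MvPolynomial (Fin n) R :=
  MvPolynomial.map (st s).subtype

omit [IsLocalRing R] in
theorem incl_injective (s : Finset R) : Function.Injective (incl (n := n) s) :=
  MvPolynomial.map_injective _ Subtype.val_injective

omit [IsLocalRing R] in
theorem incl_map {s t : Finset R} (h : s ⊆ t) (u : MvPolynomial (Fin n) (st s)) :
    incl t (MvPolynomial.map (stIncl h) u) = incl s u := by
  rw [incl, MvPolynomial.map_map, subtype_comp_stIncl]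

omit [IsLocalRing R] in
/-- Finitely many polynomials over `R` are defined over a stage. -/
theorem exists_stage {ι : Type*} [Finite ι] (u : ι → MvPolynomial (Fin n) R) :
    ∃ s₀ : Finset R, ∀ s, s₀ ⊆ s → ∀ i, ∃ v : MvPolynomial (Fin n) (st s), incl s v = u i := by
  classical
  have : Fintype ι := Fintype.ofFinite ι
  refine ⟨Finset.univ.biUnion fun i => (u i).support.image fun m => (u i).coeff m,
    fun s hs i => ?_⟩
  have hmem : u i ∈ Set.range (incl (n := n) s) := by
    refine MvPolynomial.mem_range_map_iff_coeffs_subset.mpr fun c hc => ?_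
    obtain ⟨m, hm, rfl⟩ := MvPolynomial.mem_coeffs_iff.mp hc
    exact ⟨⟨_, subset_st (hs (Finset.mem_biUnion.mpr
      ⟨i, Finset.mem_univ _, Finset.mem_image_of_mem _ hm⟩))⟩, rfl⟩
  exact hmem

end Groth.Agent.GrpScheme.FlatFib
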