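import Groth.Agent.GrpScheme.FlatFib.Model
import Groth.Agent.GrpScheme.FlatFib.Lemmas
import Groth.Agent.LocFlat.Basic
import Mathlib.RingTheory.Polynomial.Basic

/-!
# Flatness descends to a stage
-/

set_option autoImplicit false

universe u

open TensorProduct MvPolynomial

namespace Groth.Agent.GrpScheme.FlatFib

section Poly

variable {T₁ T : Type u} [CommRing T₁] [CommRing T] {n k r nσ : ℕ}

theorem ker_map_quot (I : Ideal T) (g : Fin r → T) (hg : Ideal.span (Set.range g) = I) :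
    RingHom.ker (MvPolynomial.map (σ := Fin n) (Ideal.Quotient.mk I)) =
      Ideal.span (Set.range fun i => C (g i)) := by
  rw [MvPolynomial.ker_map, Ideal.mk_ker, ← hg, Ideal.map_span, ← Set.range_comp]
  rfl

theorem map_span_range (ι : T₁ →+* T) (m : Ideal T₁) (g : Fin r → T₁)
    (hg : Ideal.span (Set.range g) = m) : Ideal.span (Set.range fun i => ι (g i)) = m.map ι := by
  rw [← hg, Ideal.map_span, ← Set.range_comp]
  rfl

theorem map_quot_square (ι : T₁ →+* T) (m : Ideal T₁) (p : MvPolynomial (Fin n) T₁) :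
    MvPolynomial.map (Ideal.Quotient.mk (m.map ι)) (MvPolynomial.map ι p) =
      MvPolynomial.map (Ideal.quotientMap (m.map ι) ι Ideal.le_comap_map)
        (MvPolynomial.map (Ideal.Quotient.mk m) p) := by
  simp only [MvPolynomial.map_map]
  rfl

/-- Relations modulo `m T` among equations defined over `T₁` come from `T₁`. -/
theorem poly_decomp (ι : T₁ →+* T) (m : Ideal T₁) [m.IsMaximal] (g : Fin r → T₁)
    (hg : Ideal.span (Set.range g) = m) (f₀ : Fin k → MvPolynomial (Fin n) T₁)
    (σ : Fin nσ → Fin k → MvPolynomial (Fin n) T₁)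
    (hσ : ∀ b : Fin k → MvPolynomial (Fin n) (T₁ ⧸ m),
      ∑ j, MvPolynomial.map (Ideal.Quotient.mk m) (f₀ j) * b j = 0 →
      ∃ co : Fin nσ → MvPolynomial (Fin n) (T₁ ⧸ m),
        ∀ j, b j = ∑ l, co l * MvPolynomial.map (Ideal.Quotient.mk m) (σ l j))
    (τ : Fin nσ → Fin r → MvPolynomial (Fin n) T₁)
    (hτ : ∀ l, ∑ i, τ l i * C (g i) = ∑ j, σ l j * f₀ j)
    (c : Fin k → MvPolynomial (Fin n) T) (u : Fin r → MvPolynomial (Fin n) T)
    (hcu : ∑ j, c j * MvPolynomial.map ι (f₀ j) = ∑ i, C (ι (g i)) * u i) :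
    ∃ (E : Fin nσ → MvPolynomial (Fin n) T) (D : Fin k → Fin r → MvPolynomial (Fin n) T),
      ∑ i, ι (g i) • (u i - ∑ l, E l * MvPolynomial.map ι (τ l i) -
        ∑ j, D j i * MvPolynomial.map ι (f₀ j)) = 0 := by
  let := Ideal.Quotient.field m
  let φ := Ideal.quotientMap (m.map ι) ι Ideal.le_comap_map
  let q := MvPolynomial.map (σ := Fin n) (Ideal.Quotient.mk (m.map ι))
  have hkerq := ker_map_quot (n := n) (m.map ι) _ (map_span_range ι m g hg)
  have hφ : φ.Flat := by
    let := φ.toAlgebra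
    exact (inferInstance : Module.Flat (T₁ ⧸ m) (T ⧸ m.map ι))
  let := (MvPolynomial.map (σ := Fin n) φ).toAlgebra
  have : Module.Flat (MvPolynomial (Fin n) (T₁ ⧸ m)) (MvPolynomial (Fin n) (T ⧸ m.map ι)) :=
    flat_mvPolynomial_map φ hφ n
  have hsyz : ∑ j, MvPolynomial.map (Ideal.Quotient.mk m) (f₀ j) • q (c j) = 0 := by
    have h1 := congrArg q hcu
    have h3 : ∀ i, q (C (ι (g i))) = 0 := fun i => by
      rw [← RingHom.mem_ker, hkerq]; exact Ideal.subset_span ⟨i, rfl⟩
    simp only [map_sum, map_mul, h3, zero_mul, Finset.sum_const_zero] at h1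
    rw [← h1]
    refine Finset.sum_congr rfl fun j _ => ?_
    rw [Algebra.smul_def, RingHom.algebraMap_toAlgebra, mul_comm, ← map_quot_square]
  obtain ⟨d, b, y, hy, hb⟩ := Module.Flat.isTrivialRelation_of_sum_smul_eq_zero
    (R := MvPolynomial (Fin n) (T₁ ⧸ m)) (M := MvPolynomial (Fin n) (T ⧸ m.map ι)) hsyz
  choose co hco using fun j => hσ (fun i => b i j) (hb j)
  have hq : Function.Surjective q := MvPolynomial.map_surjective _ Ideal.Quotient.mk_surjective
  choose E hE using fun l => hq (∑ j, MvPolynomial.map φ (co j l) * y j)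
  have hd : ∀ i, ∃ dd : Fin r → MvPolynomial (Fin n) T,
      ∑ l, dd l * C (ι (g l)) = c i - ∑ l, E l * MvPolynomial.map ι (σ l i) := fun i => by
    refine Ideal.mem_span_range_iff_exists_fun.mp (hkerq ▸ ?_)
    rw [RingHom.mem_ker, map_sub, map_sum, sub_eq_zero]
    refine (hy i).trans ?_
    have hr : ∀ l, q (E l * MvPolynomial.map ι (σ l i)) = ∑ j, MvPolynomial.map φ (co j l) * y j *
        MvPolynomial.map φ (MvPolynomial.map (Ideal.Quotient.mk m) (σ l i)) := fun l => by
      rw [map_mul, hE, map_quot_square, Finset.sum_mul]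
    refine Eq.trans ?_ (Finset.sum_congr rfl fun l _ => (hr l).symm)
    rw [Finset.sum_comm]
    refine Finset.sum_congr rfl fun j _ => ?_
    have h3 : b i j = _ := hco j i
    rw [Algebra.smul_def, RingHom.algebraMap_toAlgebra, h3, map_sum, Finset.sum_mul]
    exact Finset.sum_congr rfl fun l _ => by rw [map_mul]; ring
  choose D hD using hd
  refine ⟨E, D, ?_⟩
  simp only [MvPolynomial.smul_eq_C_mul, mul_sub, Finset.mul_sum, Finset.sum_sub_distrib]
  have h4 : ∀ l, ∑ i, C (ι (g i)) * (E l * MvPolynomial.map ι (τ l i)) =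
      ∑ j, E l * MvPolynomial.map ι (σ l j) * MvPolynomial.map ι (f₀ j) := fun l => by
    have := congrArg (MvPolynomial.map ι) (hτ l)
    simp only [map_sum, map_mul, MvPolynomial.map_C] at this
    simp only [mul_assoc, ← Finset.mul_sum]
    rw [← this, Finset.mul_sum]
    exact Finset.sum_congr rfl fun i _ => by ring
  have e1 : ∑ i, ∑ l, C (ι (g i)) * (E l * MvPolynomial.map ι (τ l i)) =
      ∑ j, (∑ l, E l * MvPolynomial.map ι (σ l j)) * MvPolynomial.map ι (f₀ j) := by
    rw [Finset.sum_comm, Finset.sum_congr rfl fun l _ => h4 l, Finset.sum_comm]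
    exact Finset.sum_congr rfl fun j _ => (Finset.sum_mul _ _ _).symm
  have e2 : ∑ i, ∑ j, C (ι (g i)) * (D j i * MvPolynomial.map ι (f₀ j)) =
      ∑ j, (c j - ∑ l, E l * MvPolynomial.map ι (σ l j)) * MvPolynomial.map ι (f₀ j) := by
    rw [Finset.sum_comm]
    refine Finset.sum_congr rfl fun j _ => ?_
    rw [← hD, Finset.sum_mul]
    exact Finset.sum_congr rfl fun i _ => by ring
  rw [e1, e2, ← hcu, ← Finset.sum_sub_distrib, ← Finset.sum_sub_distrib]
  exact Finset.sum_eq_zero fun j _ => by ring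

/-- A localized quotient of a flat algebra is flat. -/
theorem flat_of_surjective_isLQ {P P' B A : Type u} [CommRing P] [CommRing P'] [CommRing B]
    [CommRing A] {π : P →+* A} {J : Ideal P} (h : IsLQ π J) (q : P →+* P') (K : Ideal P')
    (hq : Function.Surjective q) (hK : J.map q = K) (hker : RingHom.ker q ≤ J) (f : B →+* P')
    (hf : ((Ideal.Quotient.mk K).comp f).Flat) (ψ : B →+* A)
    (hc : ∀ b v, q v = f b → ψ b = π v) : ψ.Flat := by
  have hker' : RingHom.ker ((Ideal.Quotient.mk K).comp q) ≤ J := fun v hv => by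
    rw [RingHom.mem_ker, RingHom.comp_apply, Ideal.Quotient.eq_zero_iff_mem, ← hK,
      ← Ideal.mem_comap, Ideal.comap_map_of_surjective _ hq, ← RingHom.ker_eq_comap_bot] at hv
    exact (sup_le le_rfl hker) hv
  obtain ⟨π', hπ', hLQ⟩ := h.of_surjective ((Ideal.Quotient.mk K).comp q)
    (Ideal.Quotient.mk_surjective.comp hq) hker'
  rw [← Ideal.map_map, hK, Ideal.map_quotient_self] at hLQ
  refine flat_of_isLQ (IsLQ.id B) hLQ _ ψ (RingHom.ext fun b => ?_) bot_le hf
  obtain ⟨v, hv⟩ := hq (f b)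
  simp only [RingHom.comp_apply, RingHom.id_apply, ← hv, hc b v hv, ← hπ']

/-- Flatness modulo `m T` of a localized quotient of `T[x]` with equations from `T₁`. -/
theorem flat_mod (ι : T₁ →+* T) (m : Ideal T₁) [m.IsMaximal]
    (f₀ : Fin k → MvPolynomial (Fin n) T₁) {M : Type u} [CommRing M] [Algebra T M]
    {π : MvPolynomial (Fin n) T →+* M} (hπC : π.comp C = algebraMap T M)
    (h : IsLQ π (Ideal.span (Set.range fun j => MvPolynomial.map ι (f₀ j)))) :
    Module.Flat (T ⧸ m.map ι) ((T ⧸ m.map ι) ⊗[T] M) := by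
  let := Ideal.Quotient.field m
  let I := m.map ι
  let φ := Ideal.quotientMap I ι Ideal.le_comap_map
  let q := MvPolynomial.map (σ := Fin n) (Ideal.Quotient.mk I)
  have hqs : Function.Surjective q := MvPolynomial.map_surjective _ Ideal.Quotient.mk_surjective
  let J₀' := Ideal.span (Set.range fun j => MvPolynomial.map ι (f₀ j))
  let J₀ : Ideal (MvPolynomial (Fin n) (T₁ ⧸ m)) :=
    Ideal.span (Set.range fun j => MvPolynomial.map (Ideal.Quotient.mk m) (f₀ j))
  let J := Ideal.span (Set.range fun j => MvPolynomial.map ι (f₀ j))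
  let Jb := J₀.map (MvPolynomial.map φ)
  let Q := I.map (algebraMap T M)
  have hQ : Q = (I.map C).map π := by
    rw [Ideal.map_map, hπC]
  have hLQ₀ : IsLQ (A := M ⧸ Q) ((Ideal.Quotient.mk Q).comp π) (J₀' ⊔ I.map C) := by
    rw [hQ]; exact h.quotient _
  have hkq : RingHom.ker q = I.map C := by rw [MvPolynomial.ker_map, Ideal.mk_ker]
  have hK : (J₀' ⊔ I.map C).map q = Jb := by
    rw [Ideal.map_sup, (Ideal.map_eq_bot_iff_le_ker _).mpr hkq.ge, sup_bot_eq]
    simp only [J₀', Jb, J₀, Ideal.map_span, ← Set.range_comp]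
    exact congrArg (fun x => Ideal.span (Set.range x)) (funext fun j => map_quot_square ι m (f₀ j))
  have hflat : (algebraMap (T ⧸ I) (M ⧸ Q)).Flat := by
    refine flat_of_surjective_isLQ hLQ₀ q Jb hqs hK (hkq.le.trans le_sup_right) C
      (flat_quotient_map φ n J₀) _ fun b v hv => ?_
    obtain ⟨x, rfl⟩ := Ideal.Quotient.mk_surjective b
    have h1 : q (C x) = q v := by rw [hv, MvPolynomial.map_C]
    have h2 := hLQ₀.map_eq_zero (C x - v)
      (le_sup_right (a := J₀') (hkq.le (by rw [RingHom.mem_ker, map_sub, h1, sub_self])))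
    rw [map_sub, sub_eq_zero] at h2
    refine Eq.trans ?_ h2
    exact congrArg (Ideal.Quotient.mk Q) (RingHom.congr_fun hπC x).symm
  rw [RingHom.flat_algebraMap_iff] at hflat
  let e₃ : ((T ⧸ I) ⊗[T] M) ≃ₗ[T] (M ⧸ Q) :=
    ((TensorProduct.quotTensorEquivQuotSMul M I).trans
      (Submodule.quotEquivOfEq _ _ (Ideal.smul_top_eq_map I))).trans
      (Submodule.Quotient.restrictScalarsEquiv T Q)
  exact Module.Flat.of_linearEquiv
    (e₃.extendScalarsOfSurjective (R := T) (S := T ⧸ I) Ideal.Quotient.mk_surjective)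

end Poly

namespace Pres

variable {R A : Type u} [CommRing R] [IsLocalRing R] [CommRing A] [IsLocalRing A] [Algebra R A]
  (X : Pres R A)

omit [IsLocalRing R] in
/-- A relation in a flat algebra becomes trivial at a stage. -/
theorem exists_trivial [Module.Flat R A] {r : ℕ} (g : Fin r → R)
    (v : Fin r → MvPolynomial (Fin X.n) R) (h : ∑ i, algebraMap R A (g i) * X.π (v i) = 0) :
    ∃ s₀ : Finset R, ∀ s, s₀ ⊆ s → ∀ (g' : Fin r → st s)
      (v' : Fin r → MvPolynomial (Fin X.n) (st s)),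
      (∀ i, (g' i : R) = g i) → (∀ i, incl s (v' i) = v i) →
      Module.IsTrivialRelation g' fun i => X.mkM s (v' i) := by
  classical
  have h' : ∑ i, g i • X.π (v i) = 0 := by simpa [Algebra.smul_def] using h
  obtain ⟨d, a, y, hy, ha⟩ := Module.Flat.isTrivialRelation_of_sum_smul_eq_zero h'
  obtain ⟨t, w, ht, hw⟩ := X.isLQ.exists_common y
  have he : ∀ i, X.π (t * v i - ∑ j, C (a i j) * w j) = 0 := fun i => by
    rw [map_sub, map_sum, map_mul, show X.π (v i) = _ from hy i, Finset.mul_sum, sub_eq_zero]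
    refine Finset.sum_congr rfl fun j _ => ?_
    rw [map_mul, X.π_C, ← hw, Algebra.smul_def]; ring
  choose u hu hmem using fun i => X.isLQ.exists_mul_mem _ (he i)
  choose c hc using fun i => Ideal.mem_span_range_iff_exists_fun.mp (hmem i)
  obtain ⟨s₁, hs₁⟩ := exists_stage
    (Sum.elim (Sum.elim ![t] w) (Sum.elim u fun p : Fin r × Fin X.k => c p.1 p.2))
  obtain ⟨s₂, hs₂⟩ := X.exists_eqs
  refine ⟨(s₁ ∪ s₂) ∪ Finset.univ.image fun p : Fin r × Fin d => a p.1 p.2,
    fun s hs g' v' hg' hv' => ?_⟩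
  rw [Finset.union_subset_iff, Finset.union_subset_iff] at hs
  obtain ⟨f', hf', hspan⟩ := hs₂ s hs.1.2
  obtain ⟨t', ht'⟩ : ∃ z, incl s z = t := hs₁ s hs.1.1 (.inl (.inl 0))
  choose w' hw' using fun j => hs₁ s hs.1.1 (.inl (.inr j))
  choose u' hu' using fun i => hs₁ s hs.1.1 (.inr (.inl i))
  choose c' hc' using fun p => hs₁ s hs.1.1 (.inr (.inr p))
  let a' : Fin r → Fin d → st s := fun i j =>
    ⟨a i j, subset_st (hs.2 (Finset.mem_image_of_mem _ (Finset.mem_univ (i, j))))⟩
  have htu : IsUnit (X.mkM s t') := by rwa [isUnit_mk_iff, ht']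
  refine ⟨d, a', fun j => (htu.unit⁻¹ : (X.M s)ˣ) * X.mkM s (w' j), fun i => ?_, fun j => ?_⟩
  · have hz : u' i * (t' * v' i - ∑ j, C (a' i j) * w' j) ∈ X.eqs s := by
      rw [hspan, Ideal.mem_span_range_iff_exists_fun]
      refine ⟨fun j => c' (i, j), incl_injective s ?_⟩
      simp only [map_sum, map_mul, map_sub]
      simp only [ht', hv', hu', hw', hc', hf', Sum.elim_inl, Sum.elim_inr]
      simp only [incl, MvPolynomial.map_C]
      exact hc i
    have h0 := (X.isLQ_mk s).map_eq_zero _ hz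
    have huu : IsUnit (X.mkM s (u' i)) := by rw [isUnit_mk_iff, hu']; exact hu i
    rw [map_mul, huu.mul_right_eq_zero, map_sub, map_mul, map_sum, sub_eq_zero] at h0
    calc X.mkM s (v' i)
        = (htu.unit⁻¹ : (X.M s)ˣ) * (X.mkM s t' * X.mkM s (v' i)) := by
          rw [← mul_assoc, IsUnit.val_inv_mul, one_mul]
      _ = _ := by
          rw [h0, Finset.mul_sum]
          refine Finset.sum_congr rfl fun j _ => ?_
          rw [map_mul]
          simp only [X.smul_mk]
          exact mul_left_comm _ _ _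
  · refine Subtype.ext ?_
    simpa [hg', a'] using ha j

/-- The heart: flatness of the model over a stage, for all large stages. -/
theorem exists_flat [IsLocalHom (algebraMap R A)] [Module.Flat R A] :
    ∃ s₀ : Finset R, ∀ s, s₀ ⊆ s → (X.str s).Flat := by
  classical
  obtain ⟨s₀, hs₀⟩ := X.exists_eqs
  obtain ⟨f₀, hf₀, -⟩ := hs₀ s₀ subset_rfl
  let m := IsLocalRing.maximalIdeal (st s₀)
  let := Ideal.Quotient.field m
  obtain ⟨r, g, hg⟩ : ∃ (r : ℕ) (g : Fin r → st s₀), Ideal.span (Set.range g) = m :=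
    Submodule.fg_iff_exists_fin_generating_family.mp (IsNoetherian.noetherian m)
  let ρ := MvPolynomial.map (σ := Fin X.n) (Ideal.Quotient.mk m)
  let L := Fintype.linearCombination (MvPolynomial (Fin X.n) (st s₀ ⧸ m)) fun k => ρ (f₀ k)
  obtain ⟨nσ, σb, hσb⟩ : ∃ (nσ : ℕ) (σb : Fin nσ → Fin X.k → MvPolynomial (Fin X.n) (st s₀ ⧸ m)),
      Submodule.span _ (Set.range σb) = LinearMap.ker L :=
    Submodule.fg_iff_exists_fin_generating_family.mp (IsNoetherian.noetherian _)
  have hρ : Function.Surjective ρ := MvPolynomial.map_surjective _ Ideal.Quotient.mk_surjective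
  choose σ hσ using fun l k => hρ (σb l k)
  have hσ' : ∀ b : Fin X.k → MvPolynomial (Fin X.n) (st s₀ ⧸ m), ∑ j, ρ (f₀ j) * b j = 0 →
      ∃ co : Fin nσ → MvPolynomial (Fin X.n) (st s₀ ⧸ m),
        ∀ j, b j = ∑ l, co l * ρ (σ l j) := fun b hb => by
    obtain ⟨co, hco⟩ := (Submodule.mem_span_range_iff_exists_fun _).mp
      (show b ∈ Submodule.span _ (Set.range σb) by
        rw [hσb, LinearMap.mem_ker, Fintype.linearCombination_apply, ← hb]
        exact Finset.sum_congr rfl fun j _ => by rw [smul_eq_mul, mul_comm])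
    exact ⟨co, fun j => by simp [← hco, hσ, Finset.sum_apply]⟩
  have hτ' : ∀ l, ∃ τ : Fin r → MvPolynomial (Fin X.n) (st s₀),
      ∑ i, τ i * C (g i) = ∑ k, σ l k * f₀ k := fun l => by
    refine Ideal.mem_span_range_iff_exists_fun.mp (ker_map_quot m g hg ▸ ?_)
    have : σb l ∈ LinearMap.ker L := hσb ▸ Submodule.subset_span ⟨l, rfl⟩
    rw [LinearMap.mem_ker, Fintype.linearCombination_apply] at this
    rw [RingHom.mem_ker, map_sum, ← this]
    exact Finset.sum_congr rfl fun j _ => by rw [map_mul, smul_eq_mul, ← hσ l j]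
  choose τ hτ using hτ'
  have hrel : ∀ l, ∑ i, algebraMap R A (g i) * X.π (incl s₀ (τ l i)) = 0 := fun l => by
    have := congrArg (fun p => X.π (incl s₀ p)) (hτ l)
    simp only [map_sum, map_mul, hf₀, X.isLQ.map_eq_zero _ (Ideal.subset_span ⟨_, rfl⟩), mul_zero,
      Finset.sum_const_zero] at this
    rw [← this]
    refine Finset.sum_congr rfl fun i _ => ?_
    rw [incl, MvPolynomial.map_C, X.π_C, mul_comm]; rfl
  choose S hS using fun l => X.exists_trivial (fun i => (g i : R)) _ (hrel l)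
  refine ⟨s₀ ∪ Finset.univ.biUnion S, fun s hs => ?_⟩
  rw [Finset.union_subset_iff] at hs
  obtain ⟨h0, hS'⟩ := hs
  obtain ⟨f', hf', hspan⟩ := hs₀ s h0
  let ι := stIncl (R := R) h0
  have hμf : ∀ k, MvPolynomial.map ι (f₀ k) = f' k := fun k =>
    incl_injective s (((incl_map h0 _).trans (hf₀ k)).trans (hf' k).symm)
  have hspan' : X.eqs s = Ideal.span (Set.range fun j => MvPolynomial.map ι (f₀ j)) := by
    rw [hspan, funext hμf]
  have hgI : ∀ i, ι (g i) ∈ m.map ι := fun i =>
    Ideal.mem_map_of_mem ι (hg ▸ Ideal.subset_span ⟨i, rfl⟩)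
  have hIm : m.map ι ≠ ⊤ := ne_top_of_le_ne_top (IsLocalRing.maximalIdeal.isMaximal _).ne_top
    (((IsLocalRing.local_hom_TFAE ι).out 0 2).mp (isLocalHom_inclusion _ _ (st_mono h0)))
  have halg : algebraMap (st s) (X.M s) = X.str s := X.algebraMap_M s
  rw [← halg, RingHom.flat_algebraMap_iff]
  have : IsLocalHom (algebraMap (st s) (X.M s)) := halg ▸ X.isLocalHom_str s
  refine LocFlat.flat_criterion (S := X.M s) (X.M s) (m.map ι) (LocFlat.map_le_jacobson _ hIm) ?_
    (flat_mod ι m f₀ halg.symm (hspan' ▸ X.isLQ_mk s))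
  rw [injective_iff_map_eq_zero]
  intro z hz
  obtain ⟨a, rfl⟩ := exists_sum_tmul (fun i => ι (g i)) (m.map ι) hgI
    (map_span_range ι m g hg).ge z
  have ha : ∑ i, ι (g i) • a i = 0 := by
    have := congrArg (TensorProduct.lid (st s) (X.M s)) hz
    simpa using this
  obtain ⟨t, u, ht, hu⟩ := (X.isLQ_mk s).exists_common a
  have hπ : X.mkM s (∑ i, C (ι (g i)) * u i) = 0 := by
    rw [map_sum, ← mul_zero (X.mkM s t), ← ha, Finset.mul_sum]
    refine Finset.sum_congr rfl fun i _ => ?_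
    rw [map_mul, ← hu]
    simp only [X.smul_mk]
    exact mul_left_comm _ _ _
  obtain ⟨e, he, hmem⟩ := (X.isLQ_mk s).exists_mul_mem _ hπ
  rw [hspan'] at hmem
  obtain ⟨c, hc⟩ := Ideal.mem_span_range_iff_exists_fun.mp hmem
  obtain ⟨E, D, hv⟩ := poly_decomp ι m g hg f₀ σ hσ' τ hτ c (fun i => e * u i) (hc.trans (by
    rw [Finset.mul_sum]; exact Finset.sum_congr rfl fun i _ => by ring))
  obtain ⟨z', hz'⟩ := (he.mul ht).exists_right_inv
  have hz'' : ∀ i, z' * X.mkM s (e * u i) = a i := fun i => by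
    rw [map_mul, ← hu, ← mul_assoc (X.mkM s e), ← mul_assoc, mul_comm z', hz', one_mul]
  have hT : ∀ (x : X.M s) (w : Fin r → X.M s),
      Module.IsTrivialRelation (fun i => ι (g i)) w →
      ∑ i, (⟨ι (g i), hgI i⟩ : m.map ι) ⊗ₜ[st s] (x * w i) = 0 := fun x w hw => by
    have := congrArg ((LinearMap.mulLeft (st s) x).lTensor (m.map ι))
      (sum_tmul_eq_zero _ _ hgI w hw)
    simpa using this
  obtain ⟨d', a', y', hy', ha'⟩ := Module.Flat.isTrivialRelation_of_sum_smul_eq_zero hv
  have hv' : Module.IsTrivialRelation (fun i => ι (g i)) fun i => X.mkM s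
      (e * u i - ∑ l, E l * MvPolynomial.map ι (τ l i) - ∑ j, D j i * MvPolynomial.map ι (f₀ j)) := by
    refine ⟨d', a', fun j => X.mkM s (y' j), fun i => ?_, ha'⟩
    refine (congrArg (X.mkM s) (hy' i)).trans ?_
    rw [map_sum]
    exact Finset.sum_congr rfl fun j _ => by
      rw [MvPolynomial.smul_eq_C_mul, map_mul]
      exact (X.smul_mk s _ _).symm
  have hτ0 : ∀ l, Module.IsTrivialRelation (fun i => ι (g i))
      fun i => X.mkM s (MvPolynomial.map ι (τ l i)) := fun l =>
    hS l s ((Finset.subset_biUnion_of_mem S (Finset.mem_univ l)).trans hS') (fun i => ι (g i))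
      (fun i => MvPolynomial.map ι (τ l i)) (fun i => RingHom.congr_fun (subtype_comp_stIncl h0) (g i))
      (fun i => incl_map h0 _)
  have hai : ∀ i, a i = z' * X.mkM s
      (e * u i - ∑ l, E l * MvPolynomial.map ι (τ l i) - ∑ j, D j i * MvPolynomial.map ι (f₀ j)) +
      ∑ l, z' * X.mkM s (E l) * X.mkM s (MvPolynomial.map ι (τ l i)) := fun i => by
    have h6 : X.mkM s (∑ j, D j i * MvPolynomial.map ι (f₀ j)) = 0 :=
      (X.isLQ_mk s).map_eq_zero _ (hspan' ▸ Ideal.sum_mem _ fun j _ =>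
        Ideal.mul_mem_left _ _ (Ideal.subset_span ⟨j, rfl⟩))
    rw [map_sub, map_sub, h6, sub_zero, mul_sub, hz'', map_sum, Finset.mul_sum]
    simp only [map_mul, mul_assoc, sub_add_cancel]
  simp only [hai, TensorProduct.tmul_add, TensorProduct.tmul_sum, Finset.sum_add_distrib]
  rw [hT z' _ hv', zero_add, Finset.sum_comm]
  exact Finset.sum_eq_zero fun l _ => hT _ _ (hτ0 l)

end Pres

end Groth.Agent.GrpScheme.FlatFib
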